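import Mathlib

/-!
Sylow numbers: reduction over normal subgroups (M. Hall's product formula).
-/

set_option autoImplicit false

namespace Cfsg.Agent.H78

open Subgroup
open scoped Pointwise

variable {G : Type*} [Group G] [Finite G] {p : ℕ} [Fact p.Prime]

omit [Finite G] in
/-- If every element of `B` is a product of an element of `M ≤ B` and one of `A ≤ B`,
then `[B : A] = [M : M ∩ A]`. -/
theorem relIndex_eq_of_factor {A B M : Subgroup G} (hA : A ≤ B) (hM : M ≤ B)
    (h : ∀ b ∈ B, ∃ m ∈ M, ∃ a ∈ A, b = m * a) : A.relIndex B = A.relIndex M := by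
  unfold Subgroup.relIndex Subgroup.index
  symm
  let f : M ⧸ A.subgroupOf M → B ⧸ A.subgroupOf B :=
    Quotient.map' (fun m => ⟨m.1, hM m.2⟩) (fun x y hxy => by
      rw [QuotientGroup.leftRel_apply] at hxy ⊢
      simpa [Subgroup.mem_subgroupOf] using hxy)
  refine Nat.card_congr (Equiv.ofBijective f ⟨?_, ?_⟩)
  · intro x y hxy
    induction x using QuotientGroup.induction_on with
    | H x =>
      induction y using QuotientGroup.induction_on with
      | H y =>
        rw [QuotientGroup.eq]
        have := QuotientGroup.eq.mp hxy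
        simpa [Subgroup.mem_subgroupOf] using this
  · intro x
    induction x using QuotientGroup.induction_on with
    | H b =>
      obtain ⟨m, hm, a, ha, hb⟩ := h b b.2
      refine ⟨QuotientGroup.mk ⟨m, hm⟩, ?_⟩
      change QuotientGroup.mk (⟨m, hM hm⟩ : B) = QuotientGroup.mk b
      rw [QuotientGroup.eq]
      simp [Subgroup.mem_subgroupOf, hb, ha]

/-- The number of Sylow `p`-subgroups of `H`, computed in `G`. -/
theorem card_sylow_eq_relIndex (H : Subgroup G) (Q : Sylow p H) :
    Nat.card (Sylow p H) =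
      (normalizer (((Q : Subgroup H).map H.subtype : Subgroup G) : Set G)).relIndex H := by
  rw [Q.card_eq_index_normalizer, relIndex]
  congr 1
  rw [← Sylow.coe_coe, subgroupOf_normalizer_eq (map_subtype_le _), subgroupOf, comap_map_eq_self_of_injective]
  exact H.subtype_injective

/-- The same for a subgroup containing a Sylow subgroup of `G`. -/
theorem card_sylow_eq_relIndex_of_le (H : Subgroup G) (P : Sylow p G)
    (hPH : (P : Subgroup G) ≤ H) :
    Nat.card (Sylow p H) = (normalizer ((P : Subgroup G) : Set G)).relIndex H := by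
  rw [card_sylow_eq_relIndex H (P.subtype hPH)]
  congr
  rw [Sylow.coe_subtype, subgroupOf_map_subtype, inf_of_le_left hPH]

/-- Sylow number of a quotient. -/
theorem card_sylow_quotient (K : Subgroup G) [K.Normal] (P : Sylow p G) :
    Nat.card (Sylow p (G ⧸ K)) = (normalizer (((P : Subgroup G) ⊔ K : Subgroup G) : Set G)).index := by
  have hs := QuotientGroup.mk'_surjective K
  rw [(P.mapSurjective hs).card_eq_index_normalizer, ← Sylow.coe_coe, Sylow.coe_mapSurjective,
    ← index_comap_of_surjective _ hs, comap_normalizer_eq_of_surjective _ hs, comap_map_eq,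
    QuotientGroup.ker_mk']

/-- Dividing by a normal `p`-subgroup does not change the Sylow number. -/
theorem card_sylow_quotient_of_isPGroup (D : Subgroup G) [D.Normal] (hD : IsPGroup p D) :
    Nat.card (Sylow p (G ⧸ D)) = Nat.card (Sylow p G) := by
  obtain ⟨P⟩ : Nonempty (Sylow p G) := inferInstance
  rw [card_sylow_quotient D P, sup_of_le_left (hD.le_sylow_of_normal P), P.card_eq_index_normalizer,
    Sylow.coe_coe]

/-- Intersection of a Sylow subgroup with a normal subgroup, as a Sylow subgroup. -/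
theorem exists_sylow_inf_normal (K : Subgroup G) [K.Normal] (P : Sylow p G) :
    ∃ Q : Sylow p K, (Q : Subgroup K).map K.subtype = (P : Subgroup G) ⊓ K := by
  have hp : IsPGroup p ((P : Subgroup G).subgroupOf K) := P.2.comap_subtype
  have hi : ¬ p ∣ ((P : Subgroup G).subgroupOf K).index := by
    intro h
    have h1 : (P : Subgroup G).relIndex K ∣ (P : Subgroup G).index := by
      rw [← relIndex_eq_of_factor (B := (P : Subgroup G) ⊔ K) le_sup_left le_sup_right
        (fun b hb => by
          rw [sup_comm] at hb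
          obtain ⟨y, hy, x, hx, rfl⟩ := mem_sup_of_normal_left.mp hb
          exact ⟨y, hy, x, hx, rfl⟩)]
      exact Dvd.intro _ (relIndex_mul_index le_sup_left)
    exact P.not_dvd_index (h.trans h1)
  exact ⟨hp.toSylow hi, by rw [IsPGroup.toSylow_coe, subgroupOf_map_subtype]⟩

omit [Finite G] [Fact p.Prime] in
theorem normalizer_sylow_le (K : Subgroup G) [K.Normal] (P : Subgroup G) :
    normalizer (P : Set G) ≤ normalizer ((P ⊔ K : Subgroup G) : Set G) := by
  intro g hg
  rw [mem_normalizer_iff] at hg ⊢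
  intro x
  have key : ∀ g : G, (∀ h : G, h ∈ P ↔ g * h * g⁻¹ ∈ P) → ∀ x ∈ P ⊔ K, g * x * g⁻¹ ∈ P ⊔ K := by
    intro g hg x hx
    obtain ⟨a, ha, b, hb, rfl⟩ := mem_sup_of_normal_right.mp hx
    rw [show g * (a * b) * g⁻¹ = (g * a * g⁻¹) * (g * b * g⁻¹) by group]
    exact mem_sup_of_normal_right.mpr
      ⟨_, (hg a).mp ha, _, Subgroup.Normal.conj_mem inferInstance b hb g, rfl⟩
  refine ⟨key g hg x, fun hx => ?_⟩
  have hg' : ∀ h : G, h ∈ P ↔ g⁻¹ * h * g⁻¹⁻¹ ∈ P := fun h => by
    rw [hg (g⁻¹ * h * g⁻¹⁻¹)]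
    simp [mul_assoc]
  have := key g⁻¹ hg' _ hx
  simpa [mul_assoc] using this

/-- M. Hall's product formula. -/
theorem card_sylow_product (K : Subgroup G) [K.Normal] (P : Sylow p G) (N : Subgroup G)
    (hN : N = ((P : Subgroup G) ⊔ K) ⊓ normalizer (((P : Subgroup G) ⊓ K : Subgroup G) : Set G)) :
    Nat.card (Sylow p G) =
      Nat.card (Sylow p (G ⧸ K)) * Nat.card (Sylow p K) * Nat.card (Sylow p N) := by
  set M : Subgroup G := (P : Subgroup G) ⊔ K with hM
  set D : Subgroup G := (P : Subgroup G) ⊓ K with hD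
  set NP : Subgroup G := normalizer ((P : Subgroup G) : Set G) with hNP
  set NM : Subgroup G := normalizer (M : Set G) with hNM
  have hPD : (P : Subgroup G) ≤ normalizer (D : Set G) := by
    intro g hg
    rw [mem_normalizer_iff]
    intro x
    simp only [hD, mem_inf]
    have h1 : x ∈ (P : Subgroup G) ↔ g * x * g⁻¹ ∈ (P : Subgroup G) :=
      mem_normalizer_iff.mp (le_normalizer hg) x
    have h2 : x ∈ K ↔ g * x * g⁻¹ ∈ K :=
      ⟨fun h => Subgroup.Normal.conj_mem inferInstance x h g, fun h => by
        simpa [mul_assoc] using Subgroup.Normal.conj_mem inferInstance _ h g⁻¹⟩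
    rw [h1, h2]
  have hPN : (P : Subgroup G) ≤ N := hN ▸ le_inf le_sup_left hPD
  have hNleM : N ≤ M := hN ▸ inf_le_left
  have hNPM : NP ≤ NM := normalizer_sylow_le K (P : Subgroup G)
  have hPMM : M ≤ NM := le_normalizer
  -- Frattini argument in `NM`
  have hfac : ∀ b ∈ NM, ∃ m ∈ M, ∃ a ∈ NP, b = m * a := by
    intro b hb
    have hle : ((b • P : Sylow p G) : Subgroup G) ≤ M := by
      rw [Sylow.coe_subgroup_smul]
      intro x hx
      rw [mem_pointwise_smul_iff_inv_smul_mem] at hx
      have h2 := (mem_normalizer_iff.mp hb _).mp ((le_sup_left : (P : Subgroup G) ≤ M) hx)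
      simpa [MulAut.smul_def, mul_assoc] using h2
    obtain ⟨m, hm⟩ := MulAction.exists_smul_eq M (P.subtype le_sup_left) ((b • P).subtype hle)
    rw [Sylow.smul_subtype] at hm
    have h3 : (m : G) • P = b • P := Sylow.subtype_injective hm
    refine ⟨m, m.2, (m : G)⁻¹ * b, ?_, by group⟩
    rw [hNP, Sylow.coe_coe, ← Sylow.smul_eq_iff_mem_normalizer, mul_smul, ← h3, inv_smul_smul]
  have e1 : Nat.card (Sylow p G) = NM.index * NP.relIndex M := by
    rw [P.card_eq_index_normalizer, ← Sylow.coe_coe, ← relIndex_eq_of_factor hNPM hPMM hfac, mul_comm,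
      relIndex_mul_index hNPM]
  have hNPN : NP ⊓ M ≤ N := by
    rw [hN]
    refine le_inf inf_le_right fun g hg => ?_
    obtain ⟨hg1, -⟩ := mem_inf.mp hg
    rw [mem_normalizer_iff]
    intro x
    simp only [hD, mem_inf]
    have h2 : x ∈ K ↔ g * x * g⁻¹ ∈ K :=
      ⟨fun h => Subgroup.Normal.conj_mem inferInstance x h g, fun h => by
        simpa [mul_assoc] using Subgroup.Normal.conj_mem inferInstance _ h g⁻¹⟩
    rw [mem_normalizer_iff.mp hg1 x, h2]
  have e2 : NP.relIndex M = NP.relIndex N * N.relIndex M := by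
    have h := relIndex_mul_relIndex (NP ⊓ M) N M hNPN hNleM
    rw [inf_relIndex_right] at h
    rw [← h]
    congr 1
    rw [← inf_relIndex_right NP N, ← inf_relIndex_right (NP ⊓ M) N, inf_assoc,
      inf_of_le_right hNleM]
  obtain ⟨Q, hQ⟩ := exists_sylow_inf_normal K P
  have e3 : N.relIndex M = Nat.card (Sylow p K) := by
    rw [card_sylow_eq_relIndex K Q, hQ]
    rw [relIndex_eq_of_factor hNleM (le_sup_right : K ≤ M) (fun b hb => by
      rw [hM, sup_comm] at hb
      obtain ⟨y, hy, x, hx, rfl⟩ := mem_sup_of_normal_left.mp hb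
      exact ⟨y, hy, x, hPN hx, rfl⟩)]
    rw [hN, ← inf_relIndex_right (M ⊓ _) K, ← inf_relIndex_right (normalizer (D : Set G)) K,
      inf_right_comm, inf_of_le_right (le_sup_right : K ≤ M), inf_comm]
  rw [e1, e2, e3, ← card_sylow_quotient K P, ← card_sylow_eq_relIndex_of_le N P hPN]
  ring

end Cfsg.Agent.H78
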