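import Mathlib

/-!
Twisted actions of a doubly transitive group, and the associated symmetric designs.
-/

set_option autoImplicit false

namespace Cfsg.Agent.H78

open Finset

section burnside

variable {G Ω : Type*} [Group G] [Finite G] [Fintype Ω] [MulAction G Ω]

/-- The `G`-orbits on `Ω × Ω`, the second factor twisted by `β`. -/
abbrev twistAction (β : MulAut G) : MulAction G (Ω × Ω) where
  smul g x := (g • x.1, β g • x.2)
  one_smul x := by
    change ((1 : G) • x.1, β 1 • x.2) = x
    rw [map_one, one_smul, one_smul]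
  mul_smul g h x := by
    change ((g * h) • x.1, β (g * h) • x.2) = (g • h • x.1, β g • β h • x.2)
    rw [map_mul, mul_smul, mul_smul]

/-- Number of fixed points, as a natural number. -/
noncomputable def fixNum (Ω : Type*) [MulAction G Ω] (g : G) : ℕ := Nat.card (MulAction.fixedBy Ω g)

theorem sum_fix_eq [Fintype G] (β : MulAut G) :
    letI := twistAction (Ω := Ω) β
    ∑ g : G, fixNum Ω g * fixNum Ω (β g) =
      Nat.card (MulAction.orbitRel.Quotient G (Ω × Ω)) * Fintype.card G := by
  classical
  letI := twistAction (Ω := Ω) β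
  rw [Nat.card_eq_fintype_card, ← MulAction.sum_card_fixedBy_eq_card_orbits_mul_card_group]
  refine Finset.sum_congr rfl fun g _ => ?_
  rw [← Nat.card_eq_fintype_card, fixNum, fixNum, ← Nat.card_prod]
  refine Nat.card_congr
    { toFun := fun x => ⟨(x.1.1, x.2.1), Prod.ext x.1.2 x.2.2⟩
      invFun := fun x => (⟨x.1.1, congrArg Prod.fst x.2⟩, ⟨x.1.2, congrArg Prod.snd x.2⟩)
      left_inv := fun x => rfl
      right_inv := fun x => rfl }

/-- A twisted doubly transitive action has at most two orbits on pairs. -/
theorem card_twist_orbits_le (h2 : MulAction.IsMultiplyPretransitive G Ω 2) (β : MulAut G) :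
    letI := twistAction (Ω := Ω) β
    Nat.card (MulAction.orbitRel.Quotient G (Ω × Ω)) ≤ 2 := by
  classical
  letI := Fintype.ofFinite G
  have hself : (letI := twistAction (Ω := Ω) (1 : MulAut G)
      Nat.card (MulAction.orbitRel.Quotient G (Ω × Ω)) ≤ 2) := by
    letI := twistAction (Ω := Ω) (1 : MulAut G)
    rw [Nat.card_eq_fintype_card]
    let f : MulAction.orbitRel.Quotient G (Ω × Ω) → Bool :=
      Quotient.lift (fun x : Ω × Ω => decide (x.1 = x.2)) (fun x y hxy => by
        obtain ⟨g, hg⟩ := hxy
        subst hg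
        change decide (g • y.1 = (1 : MulAut G) g • y.2) = decide (y.1 = y.2)
        simp)
    refine le_trans (Fintype.card_le_of_injective f ?_) (by simp)
    intro a b hab
    induction a using Quotient.inductionOn with
    | h x =>
      induction b using Quotient.inductionOn with
      | h y =>
        simp only [f, Quotient.lift_mk, decide_eq_decide] at hab
        apply Quotient.sound
        by_cases hx : x.1 = x.2
        · have hy := hab.mp hx
          have := MulAction.isPretransitive_of_is_two_pretransitive (G := G) (α := Ω) (h2 := h2)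
          obtain ⟨g, hg⟩ := MulAction.exists_smul_eq G y.1 x.1
          refine ⟨g, ?_⟩
          change (g • y.1, (1 : MulAut G) g • y.2) = x
          rw [MulAut.one_apply, ← hy, hg]
          exact Prod.ext rfl hx
        · have hy : ¬ y.1 = y.2 := fun h => hx (hab.mpr h)
          obtain ⟨g, hg1, hg2⟩ := MulAction.is_two_pretransitive_iff.mp h2 hy hx
          exact ⟨g, Prod.ext hg1 hg2⟩
  have e1 := sum_fix_eq (Ω := Ω) (1 : MulAut G)
  have e2 := sum_fix_eq (Ω := Ω) β
  set f : G → ℕ := fixNum Ω with hf
  set N1 := (letI := twistAction (Ω := Ω) (1 : MulAut G)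
      Nat.card (MulAction.orbitRel.Quotient G (Ω × Ω)))
  set N2 := (letI := twistAction (Ω := Ω) β
      Nat.card (MulAction.orbitRel.Quotient G (Ω × Ω)))
  simp only [MulAut.one_apply] at e1
  have hcs := Finset.sum_mul_sq_le_sq_mul_sq (Finset.univ : Finset G) f (fun g => f (β g))
  have hperm : ∑ g : G, f (β g) ^ 2 = ∑ g : G, f g ^ 2 := Equiv.sum_comp β.toEquiv (fun g => f g ^ 2)
  rw [hperm, e2, Finset.sum_congr rfl (fun g _ => sq (f g)), e1] at hcs
  have hpos : 0 < Fintype.card G := Fintype.card_pos
  have h2N : (N2 * Fintype.card G) ^ 2 ≤ (2 * Fintype.card G) ^ 2 := by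
    refine le_trans hcs ?_
    rw [← sq]
    exact Nat.pow_le_pow_left (Nat.mul_le_mul_right _ hself) 2
  have := Nat.le_of_mul_le_mul_right ((Nat.pow_le_pow_iff_left two_ne_zero).mp h2N) hpos
  exact this

end burnside

section design

open scoped Classical

variable {G Ω : Type*} [Group G] [MulAction G Ω]

/-- Incidence of the twisted orbit of `(o, w)`. -/
def twistRel (β : MulAut G) (o w a b : Ω) : Prop := ∃ g : G, g • o = a ∧ β g • w = b

theorem twistRel_smul (β : MulAut G) (o w a b : Ω) (g : G) :
    twistRel β o w (g • a) (β g • b) ↔ twistRel β o w a b := by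
  constructor
  · rintro ⟨h, h1, h2⟩
    refine ⟨g⁻¹ * h, by rw [mul_smul, h1, inv_smul_smul], ?_⟩
    rw [map_mul, map_inv, mul_smul, h2, inv_smul_smul]
  · rintro ⟨h, rfl, rfl⟩
    exact ⟨g * h, mul_smul _ _ _, by rw [map_mul, mul_smul]⟩

theorem twistRel_self (β : MulAut G) (o w : Ω) : twistRel β o w o w :=
  ⟨1, one_smul _ _, by rw [map_one, one_smul]⟩

/-- The row of `o` is the orbit of `w` under the image of the stabiliser of `o`. -/
theorem twistRel_base_iff (β : MulAut G) (o w b : Ω) :
    twistRel β o w o b ↔
      b ∈ MulAction.orbit ((MulAction.stabilizer G o).map β.toMonoidHom) w := by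
  constructor
  · rintro ⟨g, hg, rfl⟩
    exact ⟨⟨β g, g, hg, rfl⟩, rfl⟩
  · rintro ⟨⟨_, g, hg, rfl⟩, rfl⟩
    exact ⟨g, hg, rfl⟩

variable [Fintype Ω]

theorem twist_dichotomy [Finite G] (h2 : MulAction.IsMultiplyPretransitive G Ω 2) (β : MulAut G)
    (o w b c : Ω) (hb : ¬ twistRel β o w o b) (hc : ¬ twistRel β o w o c) :
    twistRel β o b o c := by
  by_contra hbc
  letI := twistAction (Ω := Ω) β
  have hle := card_twist_orbits_le (Ω := Ω) h2 β
  have key : ∀ x y, (Quotient.mk'' (o, x) : MulAction.orbitRel.Quotient G (Ω × Ω))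
      = Quotient.mk'' (o, y) → twistRel β o y o x := fun x y h => by
    obtain ⟨g, hg⟩ := Quotient.eq''.mp h
    exact ⟨g, congrArg Prod.fst hg, congrArg Prod.snd hg⟩
  let t : Fin 3 → MulAction.orbitRel.Quotient G (Ω × Ω) :=
    ![Quotient.mk'' (o, w), Quotient.mk'' (o, b), Quotient.mk'' (o, c)]
  have ht : Function.Injective t := by
    intro i j hij
    fin_cases i <;> fin_cases j <;> first
      | rfl
      | exact absurd (key _ _ hij) hb
      | exact absurd (key _ _ hij.symm) hb
      | exact absurd (key _ _ hij) hc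
      | exact absurd (key _ _ hij.symm) hc
      | exact absurd (key _ _ hij) hbc
      | exact absurd (key _ _ hij.symm) hbc
  have := (Nat.card_le_card_of_injective t ht).trans hle
  rw [Nat.card_eq_fintype_card, Fintype.card_fin] at this
  omega

open scoped Classical in
/-- Incidence matrix of a twisted orbit. -/
noncomputable def twistMat (β : MulAut G) (o w : Ω) : Matrix Ω Ω ℤ :=
  Matrix.of fun a b => if twistRel β o w a b then 1 else 0

/-- The length of the orbit. -/
noncomputable def twistK (β : MulAut G) (o w : Ω) : ℕ :=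
  Nat.card {b : Ω // twistRel β o w o b}

theorem twistK_eq (β : MulAut G) (o w : Ω) :
    twistK β o w = Nat.card (MulAction.orbit ((MulAction.stabilizer G o).map β.toMonoidHom) w) :=
  Nat.card_congr (Equiv.subtypeEquivRight fun b => twistRel_base_iff β o w b)

theorem twistK_pos (β : MulAut G) (o w : Ω) : 0 < twistK β o w :=
  Nat.card_pos_iff.mpr ⟨⟨⟨w, twistRel_self β o w⟩⟩, inferInstance⟩

theorem twistMat_smul (β : MulAut G) (o w a b : Ω) (g : G) :
    twistMat β o w (g • a) (β g • b) = twistMat β o w a b := by
  simp [twistMat, twistRel_smul]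

theorem sum_smul_left {M : Type*} [AddCommMonoid M] (g : G) (f : Ω → M) :
    ∑ a, f (g • a) = ∑ a, f a :=
  Equiv.sum_comp (MulAction.toPerm g) f

variable (h2 : MulAction.IsMultiplyPretransitive G Ω 2)
include h2

theorem twist_row (β : MulAut G) (o w a : Ω) :
    ∑ b, twistMat β o w a b = (twistK β o w : ℤ) := by
  classical
  have := MulAction.isPretransitive_of_is_two_pretransitive (G := G) (α := Ω) (h2 := h2)
  obtain ⟨g, rfl⟩ := MulAction.exists_smul_eq G o a
  rw [← sum_smul_left (β g)]
  simp only [twistMat_smul]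
  simp [twistMat, twistK, Finset.sum_boole, Fintype.card_subtype]

theorem twist_col (β : MulAut G) (o w b : Ω) :
    ∑ a, twistMat β o w a b = (twistK β o w : ℤ) := by
  classical
  have := MulAction.isPretransitive_of_is_two_pretransitive (G := G) (α := Ω) (h2 := h2)
  have hconst : ∀ b', ∑ a, twistMat β o w a b' = ∑ a, twistMat β o w a b := by
    intro b'
    obtain ⟨g, rfl⟩ := MulAction.exists_smul_eq G b b'
    rw [← sum_smul_left (β.symm g)]
    refine Finset.sum_congr rfl fun a _ => ?_
    conv_lhs => rw [show g = β (β.symm g) from (β.apply_symm_apply g).symm]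
    rw [MulEquiv.symm_apply_apply, twistMat_smul]
  have h1 : ∑ b', ∑ a, twistMat β o w a b' = ∑ a, ∑ b', twistMat β o w a b' := Finset.sum_comm
  simp only [hconst, twist_row h2] at h1
  simp only [Finset.sum_const, Finset.card_univ, nsmul_eq_mul] at h1
  exact mul_left_cancel₀ (by simpa using (Fintype.card_pos_iff.mpr ⟨o⟩).ne') h1

/-- `M Mᵀ = (k - λ) I + λ J`, with `n (k - λ) ≡ k²`. -/
theorem twist_mul_transpose (β : MulAut G) (o w : Ω) (hn : 1 < Fintype.card Ω) :
    ∃ s l : ℤ, 0 ≤ l ∧ s = (twistK β o w : ℤ) - l ∧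
      s * ((Fintype.card Ω : ℤ) - 1) = twistK β o w * ((Fintype.card Ω : ℤ) - twistK β o w) ∧
      ∀ a c, ∑ b, twistMat β o w a b * twistMat β o w c b = (if a = c then s else 0) + l := by
  classical
  have htr := MulAction.isPretransitive_of_is_two_pretransitive (G := G) (α := Ω) (h2 := h2)
  obtain ⟨o', ho'⟩ := Fintype.exists_ne_of_one_lt_card hn o
  set l : ℤ := ∑ b, twistMat β o w o b * twistMat β o w o' b with hl
  set k : ℤ := (twistK β o w : ℤ)
  have hdiag : ∀ a, ∑ b, twistMat β o w a b * twistMat β o w a b = k := fun a => by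
    refine Eq.trans (Finset.sum_congr rfl fun b _ => ?_) (twist_row h2 β o w a)
    simp only [twistMat, Matrix.of_apply]
    split <;> simp
  have hoff : ∀ a c, a ≠ c → ∑ b, twistMat β o w a b * twistMat β o w c b = l := by
    intro a c hac
    obtain ⟨g, rfl, rfl⟩ := MulAction.is_two_pretransitive_iff.mp h2 (Ne.symm ho') hac
    rw [← sum_smul_left (β g), hl]
    simp only [twistMat_smul]
  have hall : ∀ a c, ∑ b, twistMat β o w a b * twistMat β o w c b =
      (if a = c then k - l else 0) + l := by
    intro a c
    split_ifs with h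
    · subst h; rw [hdiag]; ring
    · rw [hoff a c h]; ring
  refine ⟨k - l, l, Finset.sum_nonneg fun b _ => ?_, rfl, ?_, hall⟩
  · simp only [twistMat, Matrix.of_apply]
    split <;> split <;> simp
  have h1 : ∑ c, ∑ b, twistMat β o w o b * twistMat β o w c b = k * k := by
    rw [Finset.sum_comm]
    simp only [← Finset.mul_sum, twist_col h2]
    rw [← Finset.sum_mul, twist_row h2]
  simp only [hall] at h1
  rw [Finset.sum_add_distrib, Finset.sum_ite_eq, if_pos (Finset.mem_univ _), Finset.sum_const,
    Finset.card_univ, nsmul_eq_mul] at h1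
  linear_combination -h1

/-- The arithmetical heart: the square of the twist moves `o` to a point. -/
theorem exists_fixed_of_square [Finite G] (α : MulAut G) (o w : Ω)
    (hn : 2 < Fintype.card Ω) (hk : (twistK α o w).Coprime (Fintype.card Ω)) :
    ∃ z : Ω, twistK (α * α) o z = 1 := by
  classical
  have htr := MulAction.isPretransitive_of_is_two_pretransitive (G := G) (α := Ω) (h2 := h2)
  set n : ℤ := (Fintype.card Ω : ℤ) with hndef
  have hn3 : 3 ≤ n := by rw [hndef]; exact_mod_cast hn
  obtain ⟨s, l, hl, hs, hsn, hA⟩ := twist_mul_transpose h2 α o w (by omega)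
  set k : ℤ := (twistK α o w : ℤ) with hkdef
  have hk1 : 1 ≤ k := by rw [hkdef]; exact_mod_cast twistK_pos α o w
  have hkn : k < n := by
    have hle : twistK α o w ≤ Fintype.card Ω := by
      rw [twistK, Nat.card_eq_fintype_card]; exact Fintype.card_subtype_le _
    rcases hle.lt_or_eq with h | h
    · rw [hkdef, hndef]; exact_mod_cast h
    · rw [h, Nat.coprime_self] at hk; omega
  have hspos : 0 < s := by
    by_contra h
    push_neg at h
    nlinarith [mul_pos (by linarith : (0:ℤ) < k) (by linarith : (0:ℤ) < n - k)]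
  -- the product matrix
  set C : Matrix Ω Ω ℤ := twistMat α o w * twistMat α o w with hC
  have hCinv : ∀ a c (g : G), C (g • a) ((α * α) g • c) = C a c := by
    intro a c g
    simp only [hC, Matrix.mul_apply]
    rw [← sum_smul_left (α g)]
    refine Finset.sum_congr rfl fun b _ => ?_
    rw [twistMat_smul, MulAut.mul_apply, twistMat_smul]
  have hCC : ∀ a c, ∑ b, C a b * C c b =
      (if a = c then s * s else 0) + (s * l + l * (k * k)) := by
    intro a c
    have key : ∀ a c, (twistMat α o w * (twistMat α o w).transpose) a c =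
        (if a = c then s else 0) + l := fun a c => by
      simp only [Matrix.mul_apply, Matrix.transpose_apply, hA]
    have e : ∑ b, C a b * C c b =
        (twistMat α o w * (twistMat α o w * (twistMat α o w).transpose) *
          (twistMat α o w).transpose) a c := by
      rw [show ∑ b, C a b * C c b = (C * C.transpose) a c from rfl, hC, Matrix.transpose_mul]
      simp only [Matrix.mul_assoc]
    have e1 : ∀ a b, (twistMat α o w * (twistMat α o w * (twistMat α o w).transpose)) a b =
        s * twistMat α o w a b + k * l := by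
      intro a b
      rw [Matrix.mul_apply]
      simp only [key, mul_add, Finset.sum_add_distrib, mul_ite, mul_zero, Finset.sum_ite_eq',
        Finset.mem_univ, if_true, ← Finset.sum_mul, twist_row h2]
      rw [hkdef]
      ring
    rw [e, Matrix.mul_apply]
    simp only [e1, Matrix.transpose_apply, add_mul, Finset.sum_add_distrib, mul_assoc,
      ← Finset.mul_sum, hA, twist_row h2]
    rw [hkdef]
    split_ifs <;> ring
  have hCrow : ∀ a, ∑ b, C a b = k * k := by
    intro a
    simp only [hC, Matrix.mul_apply]
    rw [Finset.sum_comm]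
    simp only [← Finset.mul_sum, twist_row h2]
    rw [← Finset.sum_mul, twist_row h2]
  obtain ⟨o', ho'⟩ := Fintype.exists_ne_of_one_lt_card (show 1 < Fintype.card Ω by omega) o
  by_cases hone : ∀ b, twistRel (α * α) o w o b
  · exfalso
    have hconst : ∀ a b, C a b = C o w := by
      intro a b
      obtain ⟨g, rfl⟩ := MulAction.exists_smul_eq G o a
      obtain ⟨h, hh, hb⟩ := hone (((α * α) g)⁻¹ • b)
      have : b = (α * α) g • ((α * α) g)⁻¹ • b := (smul_inv_smul _ _).symm
      rw [this, hCinv, ← hb]
      nth_rewrite 1 [← hh]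
      rw [hCinv]
    have e1 := hCC o o
    have e2 := hCC o o'
    simp only [hconst] at e1 e2
    rw [if_neg (Ne.symm ho')] at e2
    rw [e2] at e1
    simp only [if_true] at e1
    nlinarith
  push_neg at hone
  obtain ⟨w', hw'⟩ := hone
  -- choose the shorter of the two orbits
  obtain ⟨z, z', hz', hzhalf⟩ : ∃ z z', ¬ twistRel (α * α) o z o z' ∧
      2 * twistK (α * α) o z ≤ Fintype.card Ω := by
    by_contra hcon
    push_neg at hcon
    have h1 := hcon w w' hw'
    have hw : ¬ twistRel (α * α) o w' o w := by
      rintro ⟨g, hg, hgw⟩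
      exact hw' ⟨g⁻¹, inv_smul_eq_iff.mpr hg.symm, by rw [map_inv]; exact inv_smul_eq_iff.mpr hgw.symm⟩
    have h2' := hcon w' w hw
    have hdisj : Disjoint (univ.filter fun b => twistRel (α * α) o w o b)
        (univ.filter fun b => twistRel (α * α) o w' o b) := by
      rw [Finset.disjoint_filter]
      rintro b - ⟨g, hg, hgb⟩ ⟨g', hg', hgb'⟩
      refine hw' ⟨g'⁻¹ * g, by rw [mul_smul, hg]; exact inv_smul_eq_iff.mpr hg'.symm, ?_⟩
      rw [map_mul, map_inv, mul_smul, hgb]
      exact inv_smul_eq_iff.mpr hgb'.symm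
    have := Finset.card_le_univ ((univ.filter fun b => twistRel (α * α) o w o b) ∪
        (univ.filter fun b => twistRel (α * α) o w' o b))
    rw [Finset.card_union_of_disjoint hdisj] at this
    rw [twistK, Nat.card_eq_fintype_card, Fintype.card_subtype] at h1 h2'
    omega
  refine ⟨z, ?_⟩
  obtain ⟨s', l', hl', hs', hsn', hB⟩ := twist_mul_transpose h2 (α * α) o z (by omega)
  set k' : ℤ := (twistK (α * α) o z : ℤ) with hk'def
  have hk'1 : 1 ≤ k' := by rw [hk'def]; exact_mod_cast twistK_pos (α * α) o z
  have hk'half : 2 * k' ≤ n := by rw [hk'def, hndef]; exact_mod_cast hzhalf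
  set y : ℤ := C o z'
  set x : ℤ := C o z - y
  have hCB : ∀ a b, C a b = x * twistMat (α * α) o z a b + y := by
    intro a b
    obtain ⟨g, rfl⟩ := MulAction.exists_smul_eq G o a
    have : b = (α * α) g • ((α * α) g)⁻¹ • b := (smul_inv_smul _ _).symm
    rw [this, hCinv, twistMat_smul]
    set b' := ((α * α) g)⁻¹ • b
    by_cases hb : twistRel (α * α) o z o b'
    · obtain ⟨h, hh, hhb⟩ := hb
      have h1 : twistMat (α * α) o z o b' = 1 := by
        simp [twistMat, show twistRel (α * α) o z o b' from ⟨h, hh, hhb⟩]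
      rw [h1, ← hhb]
      nth_rewrite 1 [← hh]
      rw [hCinv]
      ring
    · obtain ⟨h, hh, hhb⟩ := twist_dichotomy h2 (α * α) o z z' b' hz' hb
      have h1 : twistMat (α * α) o z o b' = 0 := by simp [twistMat, hb]
      rw [h1, ← hhb]
      nth_rewrite 1 [← hh]
      rw [hCinv]
      ring
  have hrow : k * k = x * k' + n * y := by
    rw [← hCrow o]
    simp only [hCB, Finset.sum_add_distrib, ← Finset.mul_sum, twist_row h2]
    simp [hndef, hk'def]
  have hCC' : ∀ a c, ∑ b, C a b * C c b =
      x * x * ((if a = c then s' else 0) + l') + (2 * x * y * k' + n * y * y) := by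
    intro a c
    have e : ∀ b, C a b * C c b = x * x * (twistMat (α * α) o z a b * twistMat (α * α) o z c b) +
        (x * y * twistMat (α * α) o z a b + (x * y * twistMat (α * α) o z c b + y * y)) := fun b => by
      rw [hCB, hCB]; ring
    rw [Finset.sum_congr rfl (fun b _ => e b)]
    simp only [Finset.sum_add_distrib, ← Finset.mul_sum, twist_row h2, hB, Finset.sum_const,
      Finset.card_univ, nsmul_eq_mul]
    rw [hk'def, hndef]
    ring
  have e1 := (hCC o o).symm.trans (hCC' o o)
  have e2 := (hCC o o').symm.trans (hCC' o o')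
  simp only [if_true] at e1
  simp only [if_neg (Ne.symm ho'), zero_add] at e2
  have hxs : s ^ 2 = x ^ 2 * s' := by linear_combination e1 - e2
  have hxdvd : x ∣ s := (Int.pow_dvd_pow_iff two_ne_zero).mp (Dvd.intro _ hxs.symm)
  obtain ⟨t, ht⟩ := hxdvd
  have hx0 : x ≠ 0 := by
    rintro hx
    rw [hx] at ht
    simp at ht
    omega
  have hts : t ^ 2 = s' := by
    have : x ^ 2 * t ^ 2 = x ^ 2 * s' := by rw [← hxs, ht]; ring
    exact mul_left_cancel₀ (pow_ne_zero 2 hx0) this
  have hcop : IsCoprime n k := by
    rw [hkdef, hndef, Int.isCoprime_iff_nat_coprime]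
    simpa using hk.symm
  have hcopx : IsCoprime n x := by
    have h1 : IsCoprime n (x * k') := by
      have := (hcop.mul_right hcop).add_mul_left_right (-y)
      rw [hrow, show x * k' + n * y + n * (-y) = x * k' by ring] at this
      exact this
    exact h1.of_mul_right_left
  have hdvd : n ∣ x * (k' - t) := by
    refine ⟨-(s - k) - k + k - y + 0, ?_⟩
    have hs2 : s - k * k = n * s - n * k := by linear_combination -hsn
    linear_combination -hrow - hs2 + ht
  obtain ⟨q, hq⟩ := hcopx.dvd_of_dvd_mul_left hdvd
  have hs'k : s' ≤ k' := by omega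
  have ht1 : t ^ 2 ≤ k' := hts ▸ hs'k
  have htk : |t| ≤ k' := by
    rcases le_or_gt |t| 1 with h | h
    · omega
    · nlinarith [abs_nonneg t, sq_abs t]
  have hq0 : 0 ≤ q := by
    by_contra h
    push_neg at h
    have h1 : n * q ≤ n * (-1) := mul_le_mul_of_nonneg_left (by omega) (by omega)
    have := abs_le.mp htk
    linarith
  have hq1 : q ≤ 1 := by
    by_contra h
    push_neg at h
    have h1 : n * 2 ≤ n * q := mul_le_mul_of_nonneg_left (by omega) (by omega)
    have := abs_le.mp htk
    linarith
  suffices k' = 1 by rw [hk'def] at this; exact_mod_cast this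
  interval_cases q
  · have : t = k' := by linarith
    subst this
    nlinarith
  · have := abs_le.mp htk
    have htk' : t = -k' := by linarith
    have : k' ^ 2 ≤ k' := by rw [show k' ^ 2 = t ^ 2 by rw [htk']; ring]; exact ht1
    nlinarith

end design

end Cfsg.Agent.H78
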