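import Mathlib
import Cfsg.Agent.H78.LinkedDesign

/-!
Automorphisms of a permutation group induced by permutations.
-/

set_option autoImplicit false

namespace Cfsg.Agent.H78

variable {Ω : Type*} [Fintype Ω] {G : Subgroup (Equiv.Perm Ω)}

/-- `α` is conjugation by a permutation normalising `G`. -/
def IsInduced (α : MulAut G) : Prop :=
  ∃ σ : Equiv.Perm Ω, σ ∈ Subgroup.normalizer (G : Set (Equiv.Perm Ω)) ∧
    ∀ g : G, ((α g : G) : Equiv.Perm Ω) = σ * (g : Equiv.Perm Ω) * σ⁻¹

omit [Fintype Ω] in
theorem IsInduced.pow {α : MulAut G} (h : IsInduced α) (m : ℕ) : IsInduced (α ^ m) := by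
  obtain ⟨σ, hσ, hσ'⟩ := h
  refine ⟨σ ^ m, pow_mem hσ m, ?_⟩
  induction m with
  | zero => intro g; simp
  | succ m ih =>
    intro g
    rw [pow_succ', MulAut.mul_apply, hσ', ih, pow_succ']
    group

omit [Fintype Ω] in
theorem fixed_of_isInduced {α : MulAut G} (h : IsInduced α) (o : Ω) :
    ∃ ω : Ω, ∀ g ∈ (MulAction.stabilizer G o).map α.toMonoidHom, g • ω = ω := by
  obtain ⟨σ, -, hσ⟩ := h
  refine ⟨σ o, ?_⟩
  rintro _ ⟨g, hg, rfl⟩
  change ((α g : G) : Equiv.Perm Ω) (σ o) = σ o
  rw [hσ, Equiv.Perm.mul_apply, Equiv.Perm.mul_apply, Equiv.Perm.inv_def, Equiv.symm_apply_apply]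
  exact congrArg σ hg

theorem isInduced_of_fixed (htr : MulAction.IsPretransitive G Ω) (o : Ω) (α : MulAut G)
    (h : ∃ ω : Ω, ∀ g ∈ (MulAction.stabilizer G o).map α.toMonoidHom, g • ω = ω) :
    IsInduced α := by
  classical
  obtain ⟨ω, hω⟩ := h
  choose t ht using fun a : Ω => MulAction.exists_smul_eq G o a
  have hwd : ∀ g : G, α g • ω = α (t (g • o)) • ω := by
    intro g
    have hmem : (t (g • o))⁻¹ * g ∈ MulAction.stabilizer G o := by
      rw [MulAction.mem_stabilizer_iff, mul_smul]
      exact inv_smul_eq_iff.mpr (ht (g • o)).symm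
    have := hω _ ⟨_, hmem, rfl⟩
    change α ((t (g • o))⁻¹ * g) • ω = ω at this
    rw [map_mul, map_inv, mul_smul, inv_smul_eq_iff] at this
    exact this
  let f : Ω → Ω := fun a => α (t a) • ω
  have hf : Function.Bijective f := by
    refine Function.Surjective.bijective_of_finite fun b => ?_
    obtain ⟨g, rfl⟩ := MulAction.exists_smul_eq G ω b
    refine ⟨α.symm g • o, ?_⟩
    change α (t _) • ω = g • ω
    rw [← hwd, MulEquiv.apply_symm_apply]
  let σ : Equiv.Perm Ω := Equiv.ofBijective f hf
  have hσ : ∀ g : G, ((α g : G) : Equiv.Perm Ω) = σ * (g : Equiv.Perm Ω) * σ⁻¹ := by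
    intro g
    rw [eq_mul_inv_iff_mul_eq]
    refine Equiv.ext fun a => ?_
    change α g • (α (t a) • ω) = α (t (g • a)) • ω
    rw [← mul_smul, ← map_mul, hwd, mul_smul, ht]
  refine ⟨σ, ?_, hσ⟩
  rw [Subgroup.mem_normalizer_iff]
  intro x
  constructor
  · intro hx
    have := (α ⟨x, hx⟩).2
    rwa [hσ] at this
  · intro hx
    have h2 := hσ (α.symm ⟨_, hx⟩)
    rw [MulEquiv.apply_symm_apply] at h2
    have h3 : x = (α.symm ⟨σ * x * σ⁻¹, hx⟩ : G) := mul_left_cancel (mul_right_cancel h2)
    rw [h3]
    exact SetLike.coe_mem _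

/-- An odd order automorphism moving a point stabiliser to a subgroup with an orbit of length
prime to the degree is induced by a permutation. -/
theorem induced_of_coprime_orbit (h2 : MulAction.IsMultiplyPretransitive G Ω 2) (o : Ω)
    (α : MulAut G) (hα : Odd (orderOf α)) (ω : Ω)
    (hk : (Nat.card (MulAction.orbit ((MulAction.stabilizer G o).map α.toMonoidHom) ω)).Coprime
      (Fintype.card Ω)) :
    IsInduced α ∧
      (Nat.card (MulAction.orbit ((MulAction.stabilizer G o).map α.toMonoidHom) ω) = 1 ∨
       Nat.card (MulAction.orbit ((MulAction.stabilizer G o).map α.toMonoidHom) ω) =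
        Fintype.card Ω - 1) := by
  classical
  have htr : MulAction.IsPretransitive G Ω :=
    MulAction.isPretransitive_of_is_two_pretransitive (G := G) (α := Ω) (h2 := h2)
  have hfin : Finite G := inferInstance
  have hind : IsInduced α := by
    by_cases hn : Fintype.card Ω ≤ 2
    · have h2le : Nat.card G ≤ 2 := by
        refine le_trans (Nat.card_le_card_of_injective (fun g : G => (g : Equiv.Perm Ω))
          Subtype.val_injective) ?_
        rw [Nat.card_perm, Nat.card_eq_fintype_card]
        exact (Nat.factorial_le hn).trans (by decide)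
      refine ⟨1, one_mem _, fun g => ?_⟩
      rw [one_mul, inv_one, mul_one]
      congr 1
      by_cases hg : g = 1
      · rw [hg, map_one]
      by_contra hne
      have h3 : 3 ≤ Nat.card G := by
        have hinj : Function.Injective ![1, g, α g] := by
          intro i j hij
          have h1 : α g ≠ 1 := fun h => hg (α.injective (h.trans (map_one α).symm))
          fin_cases i <;> fin_cases j <;> first
            | rfl
            | exact absurd hij hg
            | exact absurd hij.symm hg
            | exact absurd hij hne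
            | exact absurd hij.symm hne
            | exact absurd hij h1
            | exact absurd hij.symm h1
        simpa using Nat.card_le_card_of_injective _ hinj
      omega
    · obtain ⟨z, hz⟩ := exists_fixed_of_square h2 α o ω (by omega) (by rwa [twistK_eq])
      have hsq : IsInduced (α * α) := by
        refine isInduced_of_fixed htr o _ ⟨z, fun g hg => ?_⟩
        rw [twistK, Nat.card_eq_one_iff_unique] at hz
        obtain ⟨h, hh, rfl⟩ := hg
        have := @Subsingleton.elim _ hz.1 ⟨_, (twistRel_base_iff (α * α) o z ((α * α) h • z)).mpr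
          ⟨⟨(α * α) h, h, hh, rfl⟩, rfl⟩⟩ ⟨z, twistRel_self (α * α) o z⟩
        exact congrArg Subtype.val this
      obtain ⟨m, hm⟩ := hα
      have : α = (α * α) ^ (m + 1) := by
        rw [← sq, ← pow_mul, show 2 * (m + 1) = orderOf α + 1 by omega, pow_succ,
          pow_orderOf_eq_one, one_mul]
      rw [this]
      exact hsq.pow _
  refine ⟨hind, ?_⟩
  obtain ⟨p, hp⟩ := fixed_of_isInduced hind o
  set H := (MulAction.stabilizer G o).map α.toMonoidHom with hH
  by_cases hωp : ω = p
  · left
    rw [Nat.card_eq_one_iff_unique]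
    refine ⟨⟨?_⟩, ⟨⟨ω, MulAction.mem_orbit_self ω⟩⟩⟩
    rintro ⟨_, h, rfl⟩ ⟨_, h', rfl⟩
    apply Subtype.ext
    change (h : G) • ω = (h' : G) • ω
    rw [hωp, hp _ h.2, hp _ h'.2]
  · right
    have hstab : H = MulAction.stabilizer G p := by
      refine Subgroup.eq_of_le_of_card_ge (fun g hg => hp g hg) (le_of_eq ?_)
      have e1 : Nat.card H = Nat.card (MulAction.stabilizer G o) :=
        Nat.card_congr (Subgroup.equivMapOfInjective _ _ α.injective).symm.toEquiv
      rw [e1]
      obtain ⟨g, rfl⟩ := MulAction.exists_smul_eq G o p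
      exact Nat.card_congr
        (MulAction.stabilizerEquivStabilizerOfOrbitRel (⟨g, rfl⟩ : MulAction.orbitRel G Ω (g • o) o)).toEquiv
    have horb : MulAction.orbit H ω = {b | b ≠ p} := by
      ext b
      constructor
      · rintro ⟨h, rfl⟩ hb
        apply hωp
        exact smul_left_cancel (h : G) (Eq.trans hb (hp _ h.2).symm)
      · intro hb
        obtain ⟨g, hg1, hg2⟩ := MulAction.is_two_pretransitive_iff.mp h2 hωp hb
        exact ⟨⟨g, hstab ▸ hg2⟩, hg1⟩
    rw [horb, Nat.card_eq_fintype_card]
    change Fintype.card {b // b ≠ p} = _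
    rw [Fintype.card_subtype_compl, Fintype.card_subtype_eq]

end Cfsg.Agent.H78
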