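import Mathlib
import Cfsg.Prelude.Def_KGroupFacts
import Cfsg.Agent.H32.PermModule
import Cfsg.Agent.H78.LinkedDesign
import Cfsg.Agent.H78.Induced

/-!
Outer automorphisms of a simple group with a subgroup of prime index.
-/

set_option autoImplicit false

namespace Cfsg.Agent.H78

open scoped Classical

section product

variable {G Ω : Type*} [Group G] [Finite G] [Fintype Ω] [MulAction G Ω]

/-- The orders of the designs of `β`, `γ`, `γ * β` multiply to a square. -/
theorem twist_product (h2 : MulAction.IsMultiplyPretransitive G Ω 2) (hn : 2 < Fintype.card Ω)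
    (β γ : MulAut G) (o : Ω) (sb sc : ℤ) (hb : twistK β o o < Fintype.card Ω)
    (hc : twistK γ o o < Fintype.card Ω)
    (hsb : sb * ((Fintype.card Ω : ℤ) - 1) = twistK β o o * ((Fintype.card Ω : ℤ) - twistK β o o))
    (hsc : sc * ((Fintype.card Ω : ℤ) - 1) = twistK γ o o * ((Fintype.card Ω : ℤ) - twistK γ o o)) :
    ∃ (z : Ω) (x s' : ℤ), x ≠ 0 ∧ twistK (γ * β) o z < Fintype.card Ω ∧
      s' * ((Fintype.card Ω : ℤ) - 1) =
        twistK (γ * β) o z * ((Fintype.card Ω : ℤ) - twistK (γ * β) o z) ∧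
      sb * sc = x ^ 2 * s' := by
  have htr := MulAction.isPretransitive_of_is_two_pretransitive (G := G) (α := Ω) (h2 := h2)
  obtain ⟨t, l, -, -, ht, hA⟩ := twist_mul_transpose h2 β o o (by omega)
  obtain ⟨t', l', -, -, ht', hA'⟩ := twist_mul_transpose h2 γ o o (by omega)
  set n : ℤ := (Fintype.card Ω : ℤ) with hndef
  have hn3 : 3 ≤ n := by rw [hndef]; exact_mod_cast hn
  have hn1 : n - 1 ≠ 0 := by omega
  have etb : t = sb := mul_right_cancel₀ hn1 (ht.trans hsb.symm)
  have etc : t' = sc := mul_right_cancel₀ hn1 (ht'.trans hsc.symm)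
  subst etb
  subst etc
  have hpos : ∀ (ε : MulAut G) (u : ℤ), twistK ε o o < Fintype.card Ω →
      u * (n - 1) = twistK ε o o * (n - twistK ε o o) → 0 < u := by
    intro ε u hu heq
    have h1 : (1 : ℤ) ≤ twistK ε o o := by exact_mod_cast twistK_pos ε o o
    have h3 : (twistK ε o o : ℤ) < n := by rw [hndef]; exact_mod_cast hu
    by_contra h
    push Not at h
    nlinarith [mul_pos (by linarith : (0:ℤ) < twistK ε o o) (by linarith : (0:ℤ) < n - twistK ε o o)]
  have hspos : 0 < t * t' := mul_pos (hpos β t hb hsb) (hpos γ t' hc hsc)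
  set C : Matrix Ω Ω ℤ := twistMat β o o * twistMat γ o o with hC
  have hCinv : ∀ a c (g : G), C (g • a) ((γ * β) g • c) = C a c := by
    intro a c g
    simp only [hC, Matrix.mul_apply]
    rw [← sum_smul_left (β g)]
    refine Finset.sum_congr rfl fun b _ => ?_
    rw [twistMat_smul, MulAut.mul_apply, twistMat_smul]
  obtain ⟨L, hCC⟩ : ∃ L : ℤ, ∀ a c, ∑ b, C a b * C c b = (if a = c then t * t' else 0) + L := by
    refine ⟨t' * l + (twistK β o o * l') * twistK β o o, fun a c => ?_⟩
    have key : ∀ a c, (twistMat γ o o * (twistMat γ o o).transpose) a c =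
        (if a = c then t' else 0) + l' := fun a c => by
      simp only [Matrix.mul_apply, Matrix.transpose_apply, hA']
    have e1 : ∀ a b, (twistMat β o o * (twistMat γ o o * (twistMat γ o o).transpose)) a b =
        t' * twistMat β o o a b + twistK β o o * l' := by
      intro a b
      rw [Matrix.mul_apply]
      simp only [key, mul_add, Finset.sum_add_distrib, mul_ite, mul_zero, Finset.sum_ite_eq',
        Finset.mem_univ, if_true, ← Finset.sum_mul, twist_row h2]
      ring
    have e : ∑ b, C a b * C c b =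
        (twistMat β o o * (twistMat γ o o * (twistMat γ o o).transpose) *
          (twistMat β o o).transpose) a c := by
      rw [show ∑ b, C a b * C c b = (C * C.transpose) a c from rfl, hC, Matrix.transpose_mul]
      simp only [Matrix.mul_assoc]
    rw [e, Matrix.mul_apply]
    simp only [e1, Matrix.transpose_apply, add_mul, Finset.sum_add_distrib, mul_assoc,
      ← Finset.mul_sum, hA, twist_row h2]
    split_ifs <;> ring
  obtain ⟨o', ho'⟩ := Fintype.exists_ne_of_one_lt_card (show 1 < Fintype.card Ω by omega) o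
  have key : ∀ z, twistRel (γ * β) o z o z := twistRel_self (γ * β) o
  by_cases hone : ∀ b, twistRel (γ * β) o o o b
  · exfalso
    have hconst : ∀ a b, C a b = C o o := by
      intro a b
      obtain ⟨g, rfl⟩ := MulAction.exists_smul_eq G o a
      obtain ⟨h, hh, hb⟩ := hone (((γ * β) g)⁻¹ • b)
      have : b = (γ * β) g • ((γ * β) g)⁻¹ • b := (smul_inv_smul _ _).symm
      rw [this, hCinv, ← hb]
      nth_rewrite 1 [← hh]
      rw [hCinv]
    have e1 := hCC o o
    have e2 := hCC o o'
    simp only [hconst] at e1 e2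
    rw [if_neg (Ne.symm ho')] at e2
    rw [e2] at e1
    simp only [if_true] at e1
    linarith
  push Not at hone
  obtain ⟨z', hz'⟩ := hone
  obtain ⟨s', l₀, -, -, hsn', hB⟩ := twist_mul_transpose h2 (γ * β) o o (by omega)
  refine ⟨o, C o o - C o z', s', ?_, ?_, hsn', ?_⟩
  case refine_2 =>
    rw [twistK, Nat.card_eq_fintype_card]
    exact Fintype.card_subtype_lt hz'
  all_goals
    have hCB : ∀ a b, C a b = (C o o - C o z') * twistMat (γ * β) o o a b + C o z' := by
      intro a b
      obtain ⟨g, rfl⟩ := MulAction.exists_smul_eq G o a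
      have : b = (γ * β) g • ((γ * β) g)⁻¹ • b := (smul_inv_smul _ _).symm
      rw [this, hCinv, twistMat_smul]
      set b' := ((γ * β) g)⁻¹ • b
      by_cases hb : twistRel (γ * β) o o o b'
      · obtain ⟨h, hh, hhb⟩ := hb
        have h1 : twistMat (γ * β) o o o b' = 1 := by
          simp [twistMat, show twistRel (γ * β) o o o b' from ⟨h, hh, hhb⟩]
        rw [h1, ← hhb]
        nth_rewrite 1 [← hh]
        rw [hCinv]
        ring
      · obtain ⟨h, hh, hhb⟩ := twist_dichotomy h2 (γ * β) o o z' b' hz' hb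
        have h1 : twistMat (γ * β) o o o b' = 0 := by simp [twistMat, hb]
        rw [h1, ← hhb]
        nth_rewrite 1 [← hh]
        rw [hCinv]
        ring
    have hCC' : ∀ a c, ∑ b, C a b * C c b =
        (C o o - C o z') ^ 2 * ((if a = c then s' else 0) + l₀) +
          (2 * (C o o - C o z') * C o z' * twistK (γ * β) o o + n * C o z' ^ 2) := by
      intro a c
      have e : ∀ b, C a b * C c b =
          (C o o - C o z') ^ 2 * (twistMat (γ * β) o o a b * twistMat (γ * β) o o c b) +
          ((C o o - C o z') * C o z' * twistMat (γ * β) o o a b +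
            ((C o o - C o z') * C o z' * twistMat (γ * β) o o c b + C o z' * C o z')) := fun b => by
        rw [hCB a b, hCB c b]; ring
      rw [Finset.sum_congr rfl (fun b _ => e b)]
      simp only [Finset.sum_add_distrib, ← Finset.mul_sum, twist_row h2, hB, Finset.sum_const,
        Finset.card_univ, nsmul_eq_mul]
      rw [hndef]
      ring
    have e1 := (hCC o o).symm.trans (hCC' o o)
    have e2 := (hCC o o').symm.trans (hCC' o o')
    simp only [if_true] at e1
    simp only [if_neg (Ne.symm ho'), zero_add] at e2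
    have hxs : t * t' = (C o o - C o z') ^ 2 * s' := by linear_combination e1 - e2
  · intro hx
    rw [hx] at hxs
    nlinarith
  · exact hxs

end product

section prime

variable {Ω : Type*} [Fintype Ω] {G : Subgroup (Equiv.Perm Ω)} {p : ℕ} [Fact p.Prime]

/-- A permutation group of prime degree has order not divisible by `p ^ 2`. -/
theorem not_sq_dvd_card (hΩ : Fintype.card Ω = p) : ¬ p ^ 2 ∣ Nat.card G := by
  intro h
  have h1 : p ^ 2 ∣ p.factorial := by
    refine h.trans ((Subgroup.card_subgroup_dvd_card G).trans ?_)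
    rw [Nat.card_perm, Nat.card_eq_fintype_card, hΩ]
  have hp := (Fact.out : p.Prime)
  obtain ⟨m, hm⟩ : ∃ m, p = m + 1 := ⟨p - 1, by have := hp.pos; omega⟩
  have h2 : p ∣ m.factorial := by
    rw [hm, Nat.factorial_succ, sq] at h1
    rw [hm]
    exact Nat.dvd_of_mul_dvd_mul_left (by omega) h1
  have := hp.dvd_factorial.mp h2
  omega

theorem twistK_lt (hΩ : Fintype.card Ω = p) (htr : MulAction.IsPretransitive G Ω) (o : Ω)
    (β : MulAut G) (w : Ω) : twistK β o w < Fintype.card Ω := by
  have hle : twistK β o w ≤ Fintype.card Ω := by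
    rw [twistK, Nat.card_eq_fintype_card]; exact Fintype.card_subtype_le _
  refine lt_of_le_of_ne hle fun he => ?_
  have h1 : twistK β o w ∣ Nat.card (MulAction.stabilizer G o) := by
    rw [twistK_eq, ← Nat.card_congr (Subgroup.equivMapOfInjective (MulAction.stabilizer G o)
      β.toMonoidHom β.injective).symm.toEquiv, Nat.card_coe_set_eq, ← MulAction.index_stabilizer]
    exact Subgroup.index_dvd_card _
  refine not_sq_dvd_card (G := G) hΩ ?_
  rw [← Subgroup.card_mul_index (MulAction.stabilizer G o),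
    MulAction.index_stabilizer_of_transitive, Nat.card_eq_fintype_card (α := Ω), hΩ, sq]
  exact Nat.mul_dvd_mul (by rwa [he, hΩ] at h1) dvd_rfl

/-- The automorphisms induced by permutations, as a subgroup. -/
theorem isInduced_one : IsInduced (1 : MulAut G) :=
  ⟨1, one_mem _, fun g => by simp⟩

/-- If the design order of `β` is a square then `β` is induced. -/
theorem isInduced_of_isSquare (hΩ : Fintype.card Ω = p) (hp3 : 2 < p)
    (h2 : MulAction.IsMultiplyPretransitive G Ω 2) (o : Ω) (β : MulAut G) (s : ℤ)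
    (hs : s * ((p : ℤ) - 1) = twistK β o o * ((p : ℤ) - twistK β o o)) (hsq : IsSquare s) :
    IsInduced β := by
  have htr : MulAction.IsPretransitive G Ω :=
    MulAction.isPretransitive_of_is_two_pretransitive (G := G) (α := Ω) (h2 := h2)
  set k : ℕ := twistK β o o with hk
  have hk0 := twistK_pos β o o
  have hkp : k < p := hΩ ▸ twistK_lt hΩ htr o β o
  have main : ∀ a : ℤ, 1 ≤ a → 2 * a ≤ p → s * ((p : ℤ) - 1) = a * ((p : ℤ) - a) → a = 1 := by
    intro a ha1 ha2 hsa
    obtain ⟨t, rfl⟩ := hsq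
    have hdvd : (p : ℤ) ∣ (a - t) * (a + t) := ⟨a - t * t, by linear_combination hsa⟩
    have htle : t * t ≤ a := by
      by_contra h
      push Not at h
      nlinarith [mul_nonneg (by linarith : (0:ℤ) ≤ (p:ℤ) - 1) (by linarith : (0:ℤ) ≤ t * t - a - 1)]
    have habs : -a ≤ t ∧ t ≤ a := by
      constructor <;> nlinarith
    rcases (Nat.prime_iff_prime_int.mp (Fact.out : p.Prime)).dvd_or_dvd hdvd with h | h
    · rcases eq_or_lt_of_le (show 0 ≤ a - t by linarith) with h0 | h0
      · nlinarith
      · have := Int.le_of_dvd h0 h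
        nlinarith
    · rcases eq_or_lt_of_le (show 0 ≤ a + t by linarith) with h0 | h0
      · nlinarith
      · have := Int.le_of_dvd h0 h
        nlinarith
  -- find a point fixed by the twisted stabiliser
  obtain ⟨z, hz⟩ : ∃ z, twistK β o z = 1 := by
    by_cases hhalf : 2 * k ≤ p
    · refine ⟨o, ?_⟩
      have := main k (by omega) (by exact_mod_cast hhalf) hs
      rw [hk] at this
      exact_mod_cast this
    · have h1 : ((p : ℤ) - k) = 1 := main ((p : ℤ) - k) (by omega) (by omega) (by
        rw [hs]; ring)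
      obtain ⟨z, hz⟩ : ∃ z, ¬ twistRel β o o o z := by
        by_contra h
        push Not at h
        have : k = Fintype.card Ω := by
          rw [hk, twistK, Nat.card_congr (Equiv.subtypeUnivEquiv h), Nat.card_eq_fintype_card]
        omega
      refine ⟨z, le_antisymm ?_ (twistK_pos β o z)⟩
      have hdisj : Disjoint (Finset.univ.filter fun b => twistRel β o o o b)
          (Finset.univ.filter fun b => twistRel β o z o b) := by
        rw [Finset.disjoint_filter]
        rintro b - ⟨g, hg, hgb⟩ ⟨g', hg', hgb'⟩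
        refine hz ⟨g'⁻¹ * g, by rw [mul_smul, hg]; exact inv_smul_eq_iff.mpr hg'.symm, ?_⟩
        rw [map_mul, map_inv, mul_smul, hgb]
        exact inv_smul_eq_iff.mpr hgb'.symm
      have := Finset.card_le_univ ((Finset.univ.filter fun b => twistRel β o o o b) ∪
          (Finset.univ.filter fun b => twistRel β o z o b))
      rw [Finset.card_union_of_disjoint hdisj] at this
      rw [twistK, Nat.card_eq_fintype_card, Fintype.card_subtype] at hk ⊢
      omega
  refine isInduced_of_fixed htr o β ⟨z, fun g hg => ?_⟩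
  rw [twistK, Nat.card_eq_one_iff_unique] at hz
  obtain ⟨h, hh, rfl⟩ := hg
  exact congrArg Subtype.val (@Subsingleton.elim _ hz.1
    ⟨_, (twistRel_base_iff β o z (β h • z)).mpr ⟨⟨β h, h, hh, rfl⟩, rfl⟩⟩
    ⟨z, twistRel_self β o z⟩)

/-- Commutators of automorphisms are induced, in prime degree. -/
theorem isInduced_commutator (hΩ : Fintype.card Ω = p) (hp3 : 2 < p)
    (h2 : MulAction.IsMultiplyPretransitive G Ω 2) (o : Ω) (β γ : MulAut G) :
    IsInduced (β * γ * β⁻¹ * γ⁻¹) := by
  have htr : MulAction.IsPretransitive G Ω :=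
    MulAction.isPretransitive_of_is_two_pretransitive (G := G) (α := Ω) (h2 := h2)
  have hn : 2 < Fintype.card Ω := hΩ ▸ hp3
  choose S L hl hSk hS hrest using fun ε : MulAut G =>
    twist_mul_transpose h2 ε o o (show 1 < Fintype.card Ω by omega)
  have hprod : ∀ β γ : MulAut G, ∃ x : ℤ, x ≠ 0 ∧ S β * S γ = x ^ 2 * S (γ * β) := by
    intro β γ
    obtain ⟨z, x, s', hx, hz, hs', he⟩ :=
      twist_product h2 hn β γ o (S β) (S γ) (twistK_lt hΩ htr o β o) (twistK_lt hΩ htr o γ o)
        (hS β) (hS γ)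
    refine ⟨x, hx, ?_⟩
    suffices s' = S (γ * β) by rw [he, this]
    have hn1 : ((Fintype.card Ω : ℤ) - 1) ≠ 0 := by omega
    apply mul_right_cancel₀ hn1
    rw [hs', hS]
    by_cases hrel : twistRel (γ * β) o o o z
    · have : twistK (γ * β) o z = twistK (γ * β) o o := by
        refine Nat.card_congr (Equiv.subtypeEquivRight fun b => ?_)
        obtain ⟨g, hg, hgz⟩ := hrel
        constructor
        · rintro ⟨h, hh, rfl⟩
          exact ⟨h * g, by rw [mul_smul, hg, hh], by rw [map_mul, mul_smul, hgz]⟩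
        · rintro ⟨h, hh, rfl⟩
          exact ⟨h * g⁻¹, by rw [mul_smul, inv_smul_eq_iff.mpr hg.symm, hh],
            by rw [map_mul, map_inv, mul_smul, inv_smul_eq_iff.mpr hgz.symm]⟩
      rw [this]
    · have hsum : twistK (γ * β) o z + twistK (γ * β) o o = Fintype.card Ω := by
        rw [twistK, twistK, Nat.card_eq_fintype_card, Nat.card_eq_fintype_card,
          Fintype.card_subtype, Fintype.card_subtype, ← Finset.card_univ,
          ← Finset.card_union_of_disjoint (Finset.disjoint_filter.mpr ?_)]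
        · congr 1
          refine Finset.eq_univ_of_forall fun b => ?_
          rw [Finset.mem_union, Finset.mem_filter, Finset.mem_filter]
          by_cases hb : twistRel (γ * β) o o o b
          · exact Or.inr ⟨Finset.mem_univ _, hb⟩
          · exact Or.inl ⟨Finset.mem_univ _, twist_dichotomy h2 (γ * β) o o z b hrel hb⟩
        · rintro b - ⟨g, hg, hgb⟩ ⟨g', hg', hgb'⟩
          refine hrel ⟨g⁻¹ * g', by rw [mul_smul, hg']; exact inv_smul_eq_iff.mpr hg.symm, ?_⟩
          rw [map_mul, map_inv, mul_smul, hgb']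
          exact inv_smul_eq_iff.mpr hgb.symm
      rw [← hsum]
      push_cast
      ring
  -- `S` is a homomorphism modulo squares
  set R : ℤ → ℤ → Prop := fun a b => ∃ x y : ℤ, x ≠ 0 ∧ y ≠ 0 ∧ x ^ 2 * a = y ^ 2 * b
  have hne : ∀ ε, S ε ≠ 0 := by
    intro ε h
    have h1 := hS ε
    rw [h, zero_mul] at h1
    have h3 : (1 : ℤ) ≤ twistK ε o o := by exact_mod_cast twistK_pos ε o o
    have h4 : (twistK ε o o : ℤ) < Fintype.card Ω := by exact_mod_cast twistK_lt hΩ htr o ε o
    rcases mul_eq_zero.mp h1.symm with h5 | h5 <;> linarith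
  have h1sq : IsSquare (S 1) := by
    obtain ⟨x, hx, he⟩ := hprod 1 1
    rw [one_mul] at he
    exact ⟨x, by rw [← sq]; exact mul_right_cancel₀ (hne 1) he⟩
  have hinv : ∀ ε : MulAut G, ∃ x : ℤ, x ≠ 0 ∧ S ε * S ε⁻¹ = x ^ 2 := by
    intro ε
    obtain ⟨x, hx, he⟩ := hprod ε ε⁻¹
    rw [inv_mul_cancel] at he
    obtain ⟨r, hr⟩ := h1sq
    have hr0 : r ≠ 0 := fun h => hne 1 (by rw [hr, h, zero_mul])
    exact ⟨x * r, mul_ne_zero hx hr0, by rw [he, hr]; ring⟩
  have hsq : IsSquare (S (β * γ * β⁻¹ * γ⁻¹)) := by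
    obtain ⟨a, ha, ea⟩ := hprod γ β
    obtain ⟨b, hb, eb⟩ := hprod β⁻¹ (β * γ)
    obtain ⟨c, hc, ec⟩ := hprod γ⁻¹ (β * γ * β⁻¹)
    obtain ⟨x, hx, ex⟩ := hinv β
    obtain ⟨y, hy, ey⟩ := hinv γ
    have key : (x * y) ^ 2 = (a * b * c) ^ 2 * S (β * γ * β⁻¹ * γ⁻¹) := by
      calc (x * y) ^ 2 = (S β * S β⁻¹) * (S γ * S γ⁻¹) := by rw [ex, ey]; ring
        _ = (S γ⁻¹ * (S β⁻¹ * (S γ * S β))) := by ring
        _ = a ^ 2 * (S γ⁻¹ * (S β⁻¹ * S (β * γ))) := by rw [ea]; ring
        _ = a ^ 2 * b ^ 2 * (S γ⁻¹ * S (β * γ * β⁻¹)) := by rw [eb]; ring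
        _ = _ := by rw [ec]; ring
    obtain ⟨q, hq⟩ : a * b * c ∣ x * y :=
      (Int.pow_dvd_pow_iff two_ne_zero).mp (Dvd.intro _ key.symm)
    refine ⟨q, mul_left_cancel₀ (pow_ne_zero 2 (mul_ne_zero (mul_ne_zero ha hb) hc)) ?_⟩
    rw [← key, hq]; ring
  exact isInduced_of_isSquare hΩ hp3 h2 o _ _ (hΩ ▸ hS _) hsq

/-- The normaliser of a subgroup of prime order in the symmetric group of prime degree is
solvable. -/
theorem isSolvable_normalizer_prime (hΩ : Fintype.card Ω = p) (P : Subgroup (Equiv.Perm Ω))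
    (hP : Nat.card P = p) :
    Group.IsSolvable (Subgroup.normalizer (P : Set (Equiv.Perm Ω))) := by
  haveI hcyc : IsCyclic P := isCyclic_of_prime_card hP
  obtain ⟨σ, hσ⟩ := hcyc.exists_generator
  have hord : orderOf (σ : Equiv.Perm Ω) = p := by
    rw [Subgroup.orderOf_coe, orderOf_eq_card_of_forall_mem_zpowers hσ, hP]
  let S : Subgroup (Equiv.Perm Ω) := ⊤
  obtain ⟨C, hC⟩ := H32.exists_coords_of_order (G := S) hΩ ⟨(σ : Equiv.Perm Ω), Subgroup.mem_top _⟩
    (by rw [← Subgroup.orderOf_coe]; exact hord)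
  have hcent : ∀ c ∈ Subgroup.centralizer (P : Set (Equiv.Perm Ω)), c ∈ P := by
    intro c hc
    have hcm : ∀ i : ℕ, c * (σ : Equiv.Perm Ω) ^ i = (σ : Equiv.Perm Ω) ^ i * c := fun i =>
      (Subgroup.mem_centralizer_iff.mp hc _ (P.pow_mem σ.2 i)).symm
    obtain ⟨b, hb⟩ : ∃ b, c (C.coord 0) = C.coord b :=
      ⟨C.coord.symm (c (C.coord 0)), (C.coord.apply_symm_apply _).symm⟩
    have hpow : ∀ (i : ℕ) (j : ZMod p), ((σ : Equiv.Perm Ω) ^ i) (C.coord j) = C.coord (j + i) := by
      intro i j
      have := C.pow_smul i j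
      rw [hC] at this
      exact this
    have hc' : c = (σ : Equiv.Perm Ω) ^ b.val := by
      refine Equiv.ext fun a => ?_
      obtain ⟨j, rfl⟩ := C.coord.surjective a
      have h1 : C.coord j = ((σ : Equiv.Perm Ω) ^ j.val) (C.coord 0) := by
        rw [hpow, zero_add, ZMod.natCast_rightInverse]
      rw [hpow, ZMod.natCast_rightInverse]
      conv_lhs => rw [h1]
      rw [← Equiv.Perm.mul_apply, hcm, Equiv.Perm.mul_apply, hb, hpow, ZMod.natCast_rightInverse,
        add_comm]
    rw [hc']
    exact P.pow_mem σ.2 _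
  set N := Subgroup.normalizer (P : Set (Equiv.Perm Ω))
  let φ := P.normalizerMonoidHom
  have hk : Group.IsSolvable φ.ker := by
    refine Group.isSolvable_of_comm fun a b => ?_
    apply Subtype.ext; apply Subtype.ext
    have ha : ((a : N) : Equiv.Perm Ω) ∈ P := hcent _ (by
      exact Subgroup.mem_subgroupOf.mp ((Subgroup.normalizerMonoidHom_ker (H := P)).le a.2))
    have hb : ((b : N) : Equiv.Perm Ω) ∈ P := hcent _ (by
      exact Subgroup.mem_subgroupOf.mp ((Subgroup.normalizerMonoidHom_ker (H := P)).le b.2))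
    obtain ⟨i, hi⟩ := Subgroup.mem_zpowers_iff.mp (hσ ⟨_, ha⟩)
    obtain ⟨j, hj⟩ := Subgroup.mem_zpowers_iff.mp (hσ ⟨_, hb⟩)
    have hi' := congrArg Subtype.val hi
    have hj' := congrArg Subtype.val hj
    simp only [SubgroupClass.coe_zpow] at hi' hj'
    change ((a : N) : Equiv.Perm Ω) * _ = _ * _
    rw [← hi', ← hj', ← zpow_add, ← zpow_add, add_comm]
  have haut : Group.IsSolvable (MulAut P) := by
    refine Group.isSolvable_of_comm fun a b => ?_
    apply MulEquiv.ext
    intro x
    obtain ⟨i, hi⟩ := MonoidHom.map_cyclic a.toMonoidHom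
    obtain ⟨j, hj⟩ := MonoidHom.map_cyclic b.toMonoidHom
    change a (b x) = b (a x)
    have hi' : ∀ g, a g = g ^ i := hi
    have hj' : ∀ g, b g = g ^ j := hj
    rw [hi', hj', hj', hi', ← zpow_mul, ← zpow_mul, mul_comm]
  exact Group.isSolvable_of_ker_le_range φ.ker.subtype φ (by rw [Subgroup.range_subtype])

theorem two_transitive_of_simple (hΩ : Fintype.card Ω = p)
    (htr : MulAction.IsPretransitive G Ω) (hG : ¬ Group.IsSolvable G) :
    MulAction.IsMultiplyPretransitive G Ω 2 ∧ 2 < p := by
  obtain ⟨C, -⟩ := H32.exists_coords hΩ G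
  refine ⟨(C.allAffine_or_two_transitive hΩ).resolve_left fun h => hG (C.isSolvable h), ?_⟩
  by_contra h
  exact hG (C.isSolvable (C.allAffine_of_le_three (by omega)))

/-- The outer automorphism group of a simple transitive group of prime degree is solvable. -/
theorem isSolvable_out_perm [IsSimpleGroup G] (hΩ : Fintype.card Ω = p)
    (htr : MulAction.IsPretransitive G Ω) (hG : ¬ Group.IsSolvable G) :
    Group.IsSolvable (MulAut G ⧸ Inn G) := by
  obtain ⟨h2, hp3⟩ := two_transitive_of_simple hΩ htr hG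
  obtain ⟨o⟩ : Nonempty Ω := Fintype.card_pos_iff.mp (by omega)
  set N : Subgroup (Equiv.Perm Ω) := Subgroup.normalizer (G : Set (Equiv.Perm Ω))
  let Φ : N →* MulAut G := G.normalizerMonoidHom
  let π : MulAut G →* MulAut G ⧸ Inn G := QuotientGroup.mk' (Inn G)
  have hdvd : p ∣ Nat.card G := by
    have h := (MulAction.stabilizer G o).index_dvd_card
    rwa [MulAction.index_stabilizer_of_transitive, Nat.card_eq_fintype_card, hΩ] at h
  obtain ⟨x, hx⟩ := exists_prime_orderOf_dvd_card' (G := G) p hdvd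
  let P : Sylow p G := Sylow.ofCard (Subgroup.zpowers x) (by
    rw [Nat.card_zpowers, hx]
    have h1 : (Nat.card G).factorization p = 1 := by
      refine le_antisymm ?_ ((Fact.out : p.Prime).factorization_pos_of_dvd Nat.card_pos.ne' hdvd)
      by_contra h
      exact not_sq_dvd_card (G := G) hΩ
        ((pow_dvd_pow p (by omega)).trans (Nat.ordProj_dvd (Nat.card G) p))
    rw [h1, pow_one])
  set P' : Subgroup (Equiv.Perm Ω) := (P : Subgroup G).map G.subtype
  have hP' : Nat.card P' = p := by
    rw [Nat.card_congr (Subgroup.equivMapOfInjective _ _ G.subtype_injective).symm.toEquiv]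
    change Nat.card (Sylow.ofCard _ _ : Sylow p G) = p
    rw [Sylow.coe_ofCard, Nat.card_zpowers, hx]
  have hsol := isSolvable_normalizer_prime hΩ P' hP'
  set M : Subgroup N := (Subgroup.normalizer (P' : Set (Equiv.Perm Ω))).subgroupOf N
  have hM : Group.IsSolvable M := by
    let f : M →* Subgroup.normalizer (P' : Set (Equiv.Perm Ω)) :=
      { toFun := fun m => ⟨((m : N) : Equiv.Perm Ω), m.2⟩
        map_one' := rfl
        map_mul' := fun _ _ => rfl }
    exact Group.isSolvable_of_isSolvable_injective (f := f) (fun a b h =>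
      Subtype.ext (Subtype.ext (congrArg Subtype.val h :)))
  set A : Subgroup (MulAut G ⧸ Inn G) := M.map (π.comp Φ)
  -- the image of an induced automorphism lies in `A`
  have hind : ∀ ε : MulAut G, IsInduced ε → π ε ∈ A := by
    rintro ε ⟨σ, hσN, hσ⟩
    have heq : Φ ⟨σ, hσN⟩ = ε := MulEquiv.ext fun g => Subtype.ext (hσ g).symm
    -- Frattini argument
    let Q : Sylow p G := P.comapOfInjective (ε⁻¹).toMonoidHom (ε⁻¹).injective
      (by rw [MonoidHom.range_eq_top.mpr (ε⁻¹).surjective]; exact le_top)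
    obtain ⟨g, hg⟩ := MulAction.exists_smul_eq G P Q
    have hgc : ∀ y : G, y ∈ (Q : Subgroup G) ↔ g⁻¹ * y * g ∈ (P : Subgroup G) := by
      intro y
      rw [← hg, Sylow.coe_subgroup_smul, Subgroup.mem_pointwise_smul_iff_inv_smul_mem]
      simp [MulAut.smul_def]
    set τ : N := ⟨((g : G) : Equiv.Perm Ω), Subgroup.le_normalizer g.2⟩⁻¹ * ⟨σ, hσN⟩ with hτ
    have hτM : τ ∈ M := by
      change ((g : G) : Equiv.Perm Ω)⁻¹ * σ ∈ Subgroup.normalizer (P' : Set (Equiv.Perm Ω))
      have hle : P'.map (MulAut.conj (((g : G) : Equiv.Perm Ω)⁻¹ * σ)).toMonoidHom ≤ P' := by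
        rintro _ ⟨_, ⟨y, hy, rfl⟩, rfl⟩
        refine ⟨g⁻¹ * ε y * g, ?_, ?_⟩
        · rw [SetLike.mem_coe, ← hgc]
          change (ε⁻¹) (ε y) ∈ (P : Subgroup G)
          rwa [MulAut.inv_apply_self]
        · change ((g⁻¹ * ε y * g : G) : Equiv.Perm Ω) = _
          rw [Subgroup.coe_mul, Subgroup.coe_mul, Subgroup.coe_inv, hσ]
          simp [mul_assoc]
      have heqP := Subgroup.eq_of_le_of_card_ge hle
        (Nat.card_congr (Subgroup.equivMapOfInjective _ _ (MulAut.conj _).injective).toEquiv).le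
      rw [Subgroup.mem_normalizer_iff_map_conj_eq]
      exact heqP
    have hπg : π (Φ ⟨((g : G) : Equiv.Perm Ω), Subgroup.le_normalizer g.2⟩) = 1 := by
      change QuotientGroup.mk' _ _ = 1
      rw [QuotientGroup.mk'_apply, QuotientGroup.eq_one_iff]
      exact ⟨g, MulEquiv.ext fun y => Subtype.ext rfl⟩
    refine ⟨τ, hτM, ?_⟩
    rw [MonoidHom.comp_apply, hτ, map_mul, map_mul, map_inv, map_inv, hπg, inv_one, one_mul, heq]
  have hle : ⁅(⊤ : Subgroup (MulAut G ⧸ Inn G)), (⊤ : Subgroup (MulAut G ⧸ Inn G))⁆ ≤ A := by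
    rw [Subgroup.commutator_le]
    intro a _ b _
    obtain ⟨β, rfl⟩ := QuotientGroup.mk'_surjective (Inn G) a
    obtain ⟨γ, rfl⟩ := QuotientGroup.mk'_surjective (Inn G) b
    have := hind _ (isInduced_commutator hΩ hp3 h2 o β γ)
    simpa [π, commutatorElement_def, map_mul, map_inv] using this
  haveI : Group.IsSolvable A := Group.isSolvable_of_surjective
    ((π.comp Φ).subgroupMap_surjective M)
  have hcomm : Group.IsSolvable (commutator (MulAut G ⧸ Inn G)) :=
    Group.isSolvable_of_isSolvable_injective (f := Subgroup.inclusion hle) (Subgroup.inclusion_injective hle)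
  exact Group.isSolvable_of_ker_le_range (commutator (MulAut G ⧸ Inn G)).subtype
    (Abelianization.of (G := MulAut G ⧸ Inn G))
    (by rw [Subgroup.range_subtype, Abelianization.ker_of])

end prime

/-- A case of Schreier's conjecture. -/
theorem isSolvable_out_of_prime_index {G : Type*} [Group G] [Finite G] [IsSimpleGroup G]
    (H : Subgroup G) (hH : H.index.Prime) : Group.IsSolvable (Cfsg.Out G) := by
  by_cases hcomm : IsMulCommutative G
  · haveI : Group.IsSolvable (MulAut G) := by
      letI : CommGroup G := { (inferInstance : Group G) with mul_comm := hcomm.is_comm.comm }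
      haveI : IsCyclic G := IsSimpleGroup.isCyclic
      refine Group.isSolvable_of_comm fun a b => ?_
      apply MulEquiv.ext
      intro x
      obtain ⟨i, hi⟩ := MonoidHom.map_cyclic a.toMonoidHom
      obtain ⟨j, hj⟩ := MonoidHom.map_cyclic b.toMonoidHom
      change a (b x) = b (a x)
      have hi' : ∀ g, a g = g ^ i := hi
      have hj' : ∀ g, b g = g ^ j := hj
      rw [hi', hj', hj', hi', ← zpow_mul, ← zpow_mul, mul_comm]
    exact Group.isSolvable_of_surjective (QuotientGroup.mk'_surjective (Inn G))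
  haveI := Fact.mk hH
  haveI := Fintype.ofFinite (G ⧸ H)
  let φ : G →* Equiv.Perm (G ⧸ H) := MulAction.toPermHom G (G ⧸ H)
  have hinj : Function.Injective φ := by
    rw [← MonoidHom.ker_eq_bot_iff]
    rcases IsSimpleGroup.eq_bot_or_eq_top_of_normal φ.ker inferInstance with h | h
    · exact h
    · exfalso
      have hle : φ.ker ≤ H := fun g hg => by
        have := Equiv.Perm.ext_iff.mp (MonoidHom.mem_ker.mp hg) ((1 : G) : G ⧸ H)
        change ((g * 1 : G) : G ⧸ H) = ((1 : G) : G ⧸ H) at this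
        rw [mul_one, QuotientGroup.eq, mul_one] at this
        exact (inv_mem_iff).mp this
      rw [h, top_le_iff] at hle
      exact hH.ne_one (by rw [hle, Subgroup.index_top])
  let e : G ≃* φ.range := MonoidHom.ofInjective hinj
  haveI : Nontrivial φ.range := e.symm.toEquiv.nontrivial
  haveI : IsSimpleGroup φ.range := IsSimpleGroup.isSimpleGroup_of_surjective e.toMonoidHom e.surjective
  have hΩ : Fintype.card (G ⧸ H) = H.index := by rw [← Nat.card_eq_fintype_card]; rfl
  have htr : MulAction.IsPretransitive φ.range (G ⧸ H) := ⟨fun a b => by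
    obtain ⟨g, hg⟩ := MulAction.exists_smul_eq G a b
    exact ⟨e g, hg⟩⟩
  have hns : ¬ Group.IsSolvable φ.range := fun h => hcomm (by
    haveI := Group.isSolvable_of_isSolvable_injective (f := e.toMonoidHom) e.injective
    exact ⟨⟨fun a b => IsSimpleGroup.comm_iff_isSolvable.mpr this a b⟩⟩)
  have hsol := isSolvable_out_perm hΩ htr hns
  let E : MulAut φ.range →* MulAut G ⧸ Inn G :=
    (QuotientGroup.mk' (Inn G)).comp (MulAut.congr e.symm).toMonoidHom
  have hker : Inn φ.range ≤ E.ker := by
    rintro _ ⟨y, rfl⟩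
    rw [MonoidHom.mem_ker, MonoidHom.comp_apply, QuotientGroup.mk'_apply, QuotientGroup.eq_one_iff]
    exact ⟨e.symm y, MulEquiv.ext fun x => e.injective (by simp [MulAut.congr])⟩
  refine Group.isSolvable_of_surjective (f := QuotientGroup.lift (Inn φ.range) E hker) ?_
  intro x
  obtain ⟨β, rfl⟩ := QuotientGroup.mk'_surjective (Inn G) x
  refine ⟨QuotientGroup.mk (MulAut.congr e β), ?_⟩
  rw [QuotientGroup.lift_mk, MonoidHom.comp_apply]
  exact congrArg _ (MulEquiv.ext fun x => by simp [MulAut.congr])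

end Cfsg.Agent.H78
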