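import Mathlib

/-!
The group-theoretic principal ideal theorem: the transfer `G → G'/G''` is trivial.
Determinant proof in the module `I_G / I_{G'} I_G` over the group ring of `G/G'`.
-/

set_option autoImplicit false

namespace Cfsg.Agent.H78

open MonoidAlgebra

noncomputable section

variable (G : Type*) [Group G]

/-- The right augmentation elements. -/
def augElt (g : G) : MonoidAlgebra ℤ G := single g 1 - 1

/-- The augmentation ideal, as a `ℤ`-module. -/
def augI : Submodule ℤ (MonoidAlgebra ℤ G) := Submodule.span ℤ (Set.range (augElt G))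

/-- The product of the augmentation ideals of `G'` and `G`. -/
def augJ : Submodule ℤ (MonoidAlgebra ℤ G) :=
  Submodule.span ℤ (Set.range fun x : commutator G × G => augElt G (x.1 : G) * augElt G x.2)

variable {G}

theorem augElt_mul (g h : G) :
    single g 1 * augElt G h = augElt G (g * h) - augElt G g := by
  simp only [augElt, mul_sub, single_mul_single, mul_one]
  abel

theorem augElt_mul' (g h : G) :
    augElt G (g * h) = augElt G g + single g 1 * augElt G h := by
  rw [augElt_mul]; abel

theorem augElt_mem (g : G) : augElt G g ∈ augI G := Submodule.subset_span ⟨g, rfl⟩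

theorem augJ_le : augJ G ≤ augI G := by
  rw [augJ, Submodule.span_le]
  rintro _ ⟨⟨a, g⟩, rfl⟩
  change (single (a : G) 1 - 1) * augElt G g ∈ augI G
  rw [sub_mul, one_mul, augElt_mul]
  exact sub_mem (sub_mem (augElt_mem _) (augElt_mem _)) (augElt_mem _)

/-- Left multiplication by a group element. -/
def lmul (g : G) : MonoidAlgebra ℤ G →ₗ[ℤ] MonoidAlgebra ℤ G :=
  LinearMap.mulLeft ℤ (single g 1)

theorem lmul_mem_augI (g : G) : augI G ≤ (augI G).comap (lmul g) := by
  rw [augI, Submodule.span_le]
  rintro _ ⟨h, rfl⟩
  change single g 1 * augElt G h ∈ augI G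
  rw [augElt_mul]
  exact sub_mem (augElt_mem _) (augElt_mem _)

/-- `I_G / I_{G'} I_G`. -/
abbrev AugM (G : Type*) [Group G] : Type _ := ↥(augI G) ⧸ (augJ G).comap (augI G).subtype

/-- The class of `g - 1`. -/
def delta (g : G) : AugM G := Submodule.Quotient.mk ⟨augElt G g, augElt_mem g⟩

theorem lmul_mem_augJ (g : G) : augJ G ≤ (augJ G).comap (lmul g) := by
  rw [augJ, Submodule.span_le]
  rintro _ ⟨⟨a, h⟩, rfl⟩
  change single g 1 * (augElt G (a : G) * augElt G h) ∈ augJ G
  have h1 : single g 1 * (augElt G (a : G) * augElt G h) =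
      augElt G (g * a * g⁻¹) * (augElt G (g * h) - augElt G g) := by
    rw [← augElt_mul, ← mul_assoc, ← mul_assoc]
    congr 1
    simp only [augElt, mul_sub, sub_mul, mul_one, one_mul, single_mul_single]
    rw [show g * (a : G) * g⁻¹ * g = g * a by group]
  rw [h1, mul_sub]
  have ha : g * (a : G) * g⁻¹ ∈ commutator G := Subgroup.Normal.conj_mem inferInstance _ a.2 g
  exact sub_mem (Submodule.subset_span ⟨(⟨_, ha⟩, g * h), rfl⟩)
    (Submodule.subset_span ⟨(⟨_, ha⟩, g), rfl⟩)

/-- The action of `G` on `AugM G`. -/
def actM (g : G) : Module.End ℤ (AugM G) :=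
  Submodule.mapQ _ _ ((lmul g).restrict (fun _ hx => lmul_mem_augI g hx))
    fun _ hx => lmul_mem_augJ g hx

theorem actM_mk (g : G) (x : ↥(augI G)) :
    actM g (Submodule.Quotient.mk x) =
      Submodule.Quotient.mk ⟨single g 1 * (x : MonoidAlgebra ℤ G), lmul_mem_augI g x.2⟩ := rfl

theorem augM_ext {f f' : Module.End ℤ (AugM G)} (h : ∀ g, f (delta g) = f' (delta g)) : f = f' := by
  refine Submodule.linearMap_qext _ (LinearMap.ext fun x => ?_)
  obtain ⟨x, hx⟩ := x
  change f (Submodule.Quotient.mk ⟨x, hx⟩) = f' (Submodule.Quotient.mk ⟨x, hx⟩)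
  induction hx using Submodule.span_induction with
  | mem x hx => obtain ⟨g, rfl⟩ := hx; exact h g
  | zero => exact (map_zero f).trans (map_zero f').symm
  | add x y hx hy ihx ihy =>
    rw [show (⟨x + y, _⟩ : ↥(augI G)) = ⟨x, hx⟩ + ⟨y, hy⟩ from rfl, Submodule.Quotient.mk_add,
      map_add, map_add, ihx, ihy]
  | smul c x hx ihx =>
    rw [show (⟨c • x, _⟩ : ↥(augI G)) = c • ⟨x, hx⟩ from rfl, Submodule.Quotient.mk_smul,
      map_smul, map_smul, ihx]

theorem actM_one : actM (1 : G) = 1 :=
  augM_ext fun g => by
    rw [delta, actM_mk]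
    exact congrArg _ (Subtype.ext (by simp [← one_def]))

theorem actM_mul (g h : G) : actM (g * h) = actM g * actM h :=
  augM_ext fun k => by
    rw [Module.End.mul_apply, delta, actM_mk, actM_mk, actM_mk]
    exact congrArg _ (Subtype.ext (by simp [← mul_assoc, single_mul_single]))

/-- The action as a homomorphism. -/
def actHom (G : Type*) [Group G] : G →* Module.End ℤ (AugM G) where
  toFun := actM
  map_one' := actM_one
  map_mul' := actM_mul

theorem delta_mul (g h : G) : delta (g * h) = delta g + actM g (delta h) := by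
  rw [delta, delta, delta, actM_mk, ← Submodule.Quotient.mk_add]
  exact congrArg _ (Subtype.ext (augElt_mul' g h))

theorem actM_commutator (a : G) (ha : a ∈ commutator G) : actM a = 1 :=
  augM_ext fun g => by
    rw [Module.End.one_apply, delta, actM_mk, Submodule.Quotient.eq, Submodule.mem_comap]
    change single a 1 * augElt G g - augElt G g ∈ augJ G
    rw [show single a 1 * augElt G g - augElt G g = augElt G a * augElt G g by
      simp only [augElt]; rw [sub_mul (single a (1 : ℤ)) 1, one_mul]]
    exact Submodule.subset_span ⟨(⟨a, ha⟩, g), rfl⟩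

/-- The group ring of the abelianization acts. -/
def rhoM (G : Type*) [Group G] : MonoidAlgebra ℤ (Abelianization G) →ₐ[ℤ] Module.End ℤ (AugM G) :=
  MonoidAlgebra.lift ℤ (Module.End ℤ (AugM G)) (Abelianization G)
    (QuotientGroup.lift (commutator G) (actHom G) fun a ha => MonoidHom.mem_ker.mpr (actM_commutator a ha))

theorem rhoM_single (g : G) : rhoM G (single (Abelianization.of g) 1) = actM g := by
  exact (lift_single _ _ _).trans (one_smul _ _)

/-- The map to the group ring of the abelianization. -/
def toGamma (G : Type*) [Group G] : AugM G →ₗ[ℤ] MonoidAlgebra ℤ (Abelianization G) :=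
  Submodule.liftQ _ ((mapDomainRingHom ℤ (Abelianization.of (G := G))).toAddMonoidHom.toIntLinearMap.comp
    (augI G).subtype) (by
    intro x hx
    have hle : augJ G ≤ LinearMap.ker
        (mapDomainRingHom ℤ (Abelianization.of (G := G))).toAddMonoidHom.toIntLinearMap := by
      rw [augJ, Submodule.span_le]
      rintro _ ⟨⟨a, g⟩, rfl⟩
      change mapDomainRingHom ℤ (Abelianization.of (G := G)) (augElt G (a : G) * augElt G g) = 0
      have h1 : Abelianization.of (a : G) = 1 := by
        rw [← MonoidHom.mem_ker, Abelianization.ker_of]; exact a.2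
      rw [map_mul, augElt, map_sub, map_one]
      simp [h1, ← one_def]
    exact hle hx)

theorem toGamma_delta (g : G) :
    toGamma G (delta g) = single (Abelianization.of g) 1 - 1 := by
  change mapDomainRingHom ℤ (Abelianization.of (G := G)) (augElt G g) = _
  rw [augElt, map_sub, map_one]
  simp

theorem toGamma_rho (r : MonoidAlgebra ℤ (Abelianization G)) (g : G) :
    toGamma G (rhoM G r (delta g)) = r * toGamma G (delta g) := by
  induction r using MonoidAlgebra.induction_on with
  | of m =>
    obtain ⟨h, rfl⟩ : ∃ h, Abelianization.of h = m := QuotientGroup.mk'_surjective _ m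
    rw [of_apply, rhoM_single, delta, actM_mk]
    change mapDomainRingHom ℤ (Abelianization.of (G := G)) (single h 1 * augElt G g) =
      single (Abelianization.of h) 1 * mapDomainRingHom ℤ (Abelianization.of (G := G)) (augElt G g)
    rw [map_mul]
    simp
  | add x y hx hy => rw [map_add, LinearMap.add_apply, map_add, hx, hy, add_mul]
  | smul c x hx => rw [map_smul, LinearMap.smul_apply, map_smul, hx, smul_mul_assoc]

variable [Finite G]

attribute [local instance] Fintype.ofFinite

/-- Augmentation. -/
def augEps (G : Type*) [Group G] : MonoidAlgebra ℤ (Abelianization G) →ₐ[ℤ] ℤ :=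
  MonoidAlgebra.lift ℤ ℤ (Abelianization G) 1

theorem augEps_single (σ : Abelianization G) : augEps G (single σ 1) = 1 := by
  rw [augEps, lift_single, one_smul]; rfl

/-- Combinations of the generators `delta`. -/
def combM (G : Type*) [Group G] [Finite G] :
    (G → MonoidAlgebra ℤ (Abelianization G)) →ₗ[ℤ] AugM G :=
  ∑ g : G, ((LinearMap.applyₗ (delta g)).comp (rhoM G).toLinearMap).comp (LinearMap.proj g)

theorem combM_apply (r : G → MonoidAlgebra ℤ (Abelianization G)) :
    combM G r = ∑ g, rhoM G (r g) (delta g) := by
  simp [combM, LinearMap.sum_apply]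

/-- The relation matrix has a determinant of augmentation `± |G : G'|` killing the module. -/
theorem exists_norm_multiple : ∀ g : G,
    rhoM G (∑ σ : Abelianization G, single σ 1) (delta g) = 0 := by
  classical
  let B := Additive (Abelianization G)
  let π : (G → ℤ) →ₗ[ℤ] B := Fintype.linearCombination ℤ (fun g => Additive.ofMul (Abelianization.of g))
  have hπ : Function.Surjective π := by
    intro x
    obtain ⟨g, hg⟩ : ∃ g, Abelianization.of g = Additive.toMul x := QuotientGroup.mk'_surjective _ _
    refine ⟨Pi.single g 1, ?_⟩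
    change Fintype.linearCombination ℤ _ (Pi.single g 1) = x
    rw [Fintype.linearCombination_apply_single, one_smul, hg]
    rfl
  set K := LinearMap.ker π with hK
  let e : ((G → ℤ) ⧸ K) ≃ₗ[ℤ] B := LinearMap.quotKerEquivOfSurjective π hπ
  have hfin : Finite ((G → ℤ) ⧸ K) := Finite.of_equiv B e.symm.toEquiv
  have hrank := (Submodule.finiteQuotient_iff K).mp hfin
  rw [Module.finrank_fintype_fun_eq_card] at hrank
  let bK : Module.Basis G ℤ K :=
    (Module.finBasisOfFinrankEq ℤ K hrank).reindex (Fintype.equivFin G).symm
  have hdet : ((Pi.basisFun ℤ G).det ((↑) ∘ bK)).natAbs = Nat.card (Abelianization G) := by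
    rw [Submodule.natAbs_det_basis_change, Nat.card_congr e.toEquiv]
    rfl
  -- combinations with coefficients of augmentation zero
  let Z : Submodule ℤ (G → MonoidAlgebra ℤ (Abelianization G)) :=
    LinearMap.ker ((augEps G).toLinearMap.compLeft G)
  have hZ : ∀ g h : G, delta (g * h) - delta g - delta h ∈ Z.map (combM G) := by
    intro g h
    refine ⟨Pi.single h (single (Abelianization.of g) 1 - 1), ?_, ?_⟩
    · rw [SetLike.mem_coe, LinearMap.mem_ker]
      funext k
      change augEps G ((Pi.single h (single (Abelianization.of g) 1 - 1) :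
        G → MonoidAlgebra ℤ (Abelianization G)) k) = 0
      by_cases hk : k = h
      · subst hk; rw [Pi.single_eq_same, map_sub, map_one, augEps_single, sub_self]
      · rw [Pi.single_eq_of_ne hk, map_zero]
    · rw [combM_apply, Finset.sum_eq_single h (fun k _ hk => by
        rw [Pi.single_eq_of_ne hk, map_zero, LinearMap.zero_apply])
        (fun hh => absurd (Finset.mem_univ h) hh), Pi.single_eq_same, map_sub, map_one,
        LinearMap.sub_apply, Module.End.one_apply, rhoM_single, delta_mul]
      abel
  let θ : G →* Multiplicative (AugM G ⧸ Z.map (combM G)) :=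
    MonoidHom.mk' (fun g => Multiplicative.ofAdd (Submodule.Quotient.mk (delta g))) fun g h => by
      rw [← ofAdd_add, ← Submodule.Quotient.mk_add]
      congr 1
      rw [Submodule.Quotient.eq]
      have := hZ g h
      rwa [sub_sub] at this
  have hθ : ∀ k ∈ K, ∑ g, (k g) • delta g ∈ Z.map (combM G) := by
    intro k hk
    let L : B →ₗ[ℤ] AugM G ⧸ Z.map (combM G) :=
      (MonoidHom.toAdditiveLeft (Abelianization.lift θ)).toIntLinearMap
    have hL : ∀ g, L (Additive.ofMul (Abelianization.of g)) = Submodule.Quotient.mk (delta g) :=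
      fun g => rfl
    rw [← Submodule.Quotient.mk_eq_zero]
    have h1 : L (π k) = 0 := by rw [LinearMap.mem_ker.mp hk, map_zero]
    rw [← h1]
    simp only [π, Fintype.linearCombination_apply, map_sum, map_smul, hL]
    exact map_sum (Submodule.mkQ _) _ _
  choose r hr hr' using fun i => hθ (bK i : G → ℤ) (bK i).2
  -- the relation matrix
  let Λ : Matrix G G (MonoidAlgebra ℤ (Abelianization G)) :=
    Matrix.of fun i j => algebraMap ℤ _ ((bK i : G → ℤ) j) - r i j
  have hΛ : ∀ i, ∑ j, rhoM G (Λ i j) (delta j) = 0 := by
    intro i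
    have h2 := hr' i
    rw [combM_apply] at h2
    simp only [Λ, Matrix.of_apply, map_sub, LinearMap.sub_apply, Finset.sum_sub_distrib,
      AlgHom.commutes, Module.algebraMap_end_apply]
    rw [h2, sub_self]
  set D := Λ.det with hD
  have hkill : ∀ g, rhoM G D (delta g) = 0 := by
    intro l
    have h1 : ∑ i, rhoM G (Λ.adjugate l i) (∑ j, rhoM G (Λ i j) (delta j)) = 0 := by
      simp [hΛ]
    simp only [map_sum, ← Module.End.mul_apply, ← map_mul] at h1
    rw [Finset.sum_comm] at h1
    have h2 : ∀ j, (∑ i, Λ.adjugate l i * Λ i j) = if l = j then D else 0 := fun j => by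
      have := congrFun (congrFun (Matrix.adjugate_mul Λ) l) j
      rw [Matrix.mul_apply] at this
      rw [this, Matrix.smul_apply, Matrix.one_apply, smul_eq_mul, mul_ite, mul_one, mul_zero]
    have h3 : ∀ j, ∑ i, rhoM G (Λ.adjugate l i * Λ i j) (delta j) =
        rhoM G (if l = j then D else 0) (delta j) := fun j => by
      rw [← h2, map_sum, LinearMap.sum_apply]
    simp only [h3] at h1
    rw [Finset.sum_eq_single l (fun j _ hj => by rw [if_neg (Ne.symm hj), map_zero, LinearMap.zero_apply])
      (fun h => absurd (Finset.mem_univ l) h), if_pos rfl] at h1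
    exact h1
  -- `D` is a multiple of the norm
  have hinv : ∀ σ : Abelianization G, D * single σ 1 = D := by
    intro σ
    obtain ⟨g, rfl⟩ : ∃ g, Abelianization.of g = σ := QuotientGroup.mk'_surjective _ σ
    have h1 := congrArg (toGamma G) (hkill g)
    rw [toGamma_rho, toGamma_delta, map_zero, mul_sub, mul_one, sub_eq_zero] at h1
    exact h1
  obtain ⟨c, hc⟩ : ∃ c : ℤ, D = c • ∑ σ : Abelianization G, single σ 1 := by
    refine ⟨D.coeff 1, ?_⟩
    apply coeff_injective
    ext τ
    rw [coeff_smul, Finsupp.smul_apply, coeff_sum, Finsupp.finset_sum_apply,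
      Finset.sum_eq_single τ (fun σ _ hσ => by rw [coeff_single, Finsupp.single_eq_of_ne (Ne.symm hσ)])
        (fun h => absurd (Finset.mem_univ τ) h), coeff_single, Finsupp.single_eq_same, smul_eq_mul,
      mul_one]
    conv_lhs => rw [← hinv τ]
    rw [coeff_mul_single_eq_coeff_mul (m₂ := 1) (H := fun m' _ => by simp)]
    rw [mul_one]
  have hεD : (augEps G D).natAbs = Nat.card (Abelianization G) := by
    rw [← hdet, hD, AlgHom.map_det, Module.Basis.det_apply, ← Matrix.det_transpose]
    congr 2
    ext i j
    have h0 : augEps G (r j i) = 0 := congrFun (LinearMap.mem_ker.mp (hr j)) i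
    simp only [Matrix.transpose_apply, AlgHom.mapMatrix_apply, Matrix.map_apply, Λ, Matrix.of_apply,
      map_sub, AlgHom.commutes, h0, sub_zero, Module.Basis.toMatrix_apply, Pi.basisFun_repr,
      Function.comp_apply]
    rfl
  have hN : augEps G (∑ σ : Abelianization G, single σ 1) = (Nat.card (Abelianization G) : ℤ) := by
    rw [map_sum, Finset.sum_congr rfl (fun σ _ => augEps_single σ)]
    simp [Nat.card_eq_fintype_card]
  rw [hc, map_smul, hN, smul_eq_mul, Int.natAbs_mul, Int.natAbs_natCast] at hεD
  have hc1 : c.natAbs = 1 := Nat.eq_of_mul_eq_mul_right Nat.card_pos (hεD.trans (one_mul _).symm)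
  intro g
  have h1 := hkill g
  rw [hc, map_smul, LinearMap.smul_apply] at h1
  rcases Int.natAbs_eq_iff.mp hc1 with h | h
  · rw [h, Nat.cast_one, one_smul] at h1
    convert h1
  · rw [h, Nat.cast_one, neg_one_smul, neg_eq_zero] at h1
    convert h1

/-- Representatives of `G'`-cosets. -/
def rep (σ : Abelianization G) : G := Quotient.out σ

omit [Finite G] in
theorem of_rep (σ : Abelianization G) : Abelianization.of (rep σ) = σ := Quotient.out_eq σ

/-- The `G'`-part of an element. -/
def derPart (g : G) : commutator G :=
  ⟨g * (rep (Abelianization.of g))⁻¹, by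
    rw [← Abelianization.ker_of, MonoidHom.mem_ker, map_mul, map_inv, of_rep, mul_inv_cancel]⟩

/-- The value group. -/
abbrev Bee (G : Type*) [Group G] := Additive (Abelianization ↥(commutator G))

/-- The retraction on `ℤ[G]`. -/
def psi (G : Type*) [Group G] : MonoidAlgebra ℤ G →ₗ[ℤ] Bee G :=
  (Finsupp.linearCombination ℤ fun g => Additive.ofMul (Abelianization.of (derPart g))).comp
    (coeffLinearEquiv ℤ).toLinearMap

omit [Finite G] in
theorem psi_single (g : G) :
    psi G (single g 1) = Additive.ofMul (Abelianization.of (derPart g)) := by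
  simp [psi, coeffLinearEquiv, coeff_single]

omit [Finite G] in
theorem derPart_mul (a : commutator G) (g : G) : derPart ((a : G) * g) = a * derPart g := by
  apply Subtype.ext
  have h1 : Abelianization.of (a : G) = 1 := by
    rw [← MonoidHom.mem_ker, Abelianization.ker_of]; exact a.2
  simp [derPart, map_mul, h1, mul_assoc]

omit [Finite G] in
theorem psi_augJ : augJ G ≤ LinearMap.ker (psi G) := by
  rw [augJ, Submodule.span_le]
  rintro _ ⟨⟨a, g⟩, rfl⟩
  rw [SetLike.mem_coe, LinearMap.mem_ker]
  change psi G (augElt G (a : G) * augElt G g) = 0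
  simp only [augElt, sub_mul, mul_sub, one_mul, mul_one, single_mul_single]
  rw [one_def]
  simp only [map_sub, psi_single]
  rw [derPart_mul, show derPart (a : G) = a * derPart 1 by rw [← derPart_mul, mul_one],
    MonoidHom.map_mul, MonoidHom.map_mul, ofMul_mul, ofMul_mul]
  abel

/-- The induced map on the module. -/
def psiM (G : Type*) [Group G] : AugM G →ₗ[ℤ] Bee G :=
  Submodule.liftQ _ ((psi G).comp (augI G).subtype) fun _ hx => psi_augJ hx

/-- The principal ideal theorem. -/
theorem transfer_commutator_eq_one :
    MonoidHom.transfer (Abelianization.of : ↥(commutator G) →* Abelianization ↥(commutator G)) =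
      (1 : G →* Abelianization ↥(commutator G)) := by
  classical
  ext g
  rw [MonoidHom.one_apply]
  let f : G ⧸ commutator G → G := fun q => (rep (q : Abelianization G)⁻¹)⁻¹
  have hf : ∀ q : G ⧸ commutator G, (f q : G ⧸ commutator G) = q := fun q => by
    change Abelianization.of (f q) = (q : Abelianization G)
    rw [map_inv, of_rep]
    exact inv_inv _
  let T : (commutator G).LeftTransversal := ⟨_, Subgroup.isComplement_range_left hf⟩
  rw [MonoidHom.transfer_def _ T]
  apply Additive.ofMul.injective
  rw [ofMul_one, Subgroup.leftTransversals.diff, ofMul_prod]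
  have hsum := congrArg (psiM G) (exists_norm_multiple g)
  rw [map_zero, map_sum, LinearMap.sum_apply, map_sum] at hsum
  refine Eq.trans ?_ hsum
  let e : G ⧸ commutator G ≃ Abelianization G := Equiv.inv (Abelianization G)
  refine Finset.sum_equiv e (fun i => by simp) fun q _ => ?_
  set σ : Abelianization G := (q : Abelianization G)⁻¹ with hσ
  change _ = psiM G (rhoM G (single σ 1) (delta g))
  rw [← of_rep σ, rhoM_single, delta, actM_mk]
  change _ = psi G (single (rep σ) 1 * augElt G g)
  rw [augElt_mul, map_sub]
  simp only [augElt, map_sub, psi_single, one_def]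
  have hd1 : derPart (rep σ) = 1 := Subtype.ext (by simp [derPart, of_rep])
  rw [hd1, map_one, ofMul_one, zero_sub, sub_neg_eq_add, sub_add_cancel]
  congr 2
  apply Subtype.ext
  simp only [derPart, T]
  rw [Subgroup.smul_apply_eq_smul_apply_inv_smul, Subgroup.IsComplement.leftQuotientEquiv_apply hf,
    Subgroup.IsComplement.leftQuotientEquiv_apply hf, smul_eq_mul]
  simp only [f, inv_inv]
  rw [mul_assoc]
  have h9 : ((g⁻¹ • q : G ⧸ commutator G) : Abelianization G)⁻¹ =
      Abelianization.of (rep σ * g) := by
    rw [map_mul, of_rep, hσ]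
    induction q using QuotientGroup.induction_on with
    | H x =>
      change (Abelianization.of (g⁻¹ * x))⁻¹ = (Abelianization.of x)⁻¹ * Abelianization.of g
      rw [map_mul, map_inv, mul_inv_rev, inv_inv]
  exact congrArg (fun z : Abelianization G => rep σ * (g * (rep z)⁻¹)) h9

end

end Cfsg.Agent.H78
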