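import Mathlib
import Cfsg.Prelude.Def_HallClasses

/-!
Pronormality of overgroups of Sylow subgroups in extensions.
-/

set_option autoImplicit false

namespace Cfsg.Agent.H78

open Subgroup

variable {G : Type*} [Group G]

/-- Conjugate of a subgroup. -/
abbrev cj (g : G) (H : Subgroup G) : Subgroup G := H.map (MulAut.conj g).toMonoidHom

theorem mem_cj {g y : G} {H : Subgroup G} : y ∈ cj g H ↔ g⁻¹ * y * g ∈ H := by
  simp only [cj, mem_map, MulEquiv.toMonoidHom_eq_coe, MonoidHom.coe_coe, MulAut.conj_apply]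
  constructor
  · rintro ⟨x, hx, rfl⟩
    simpa [mul_assoc] using hx
  · intro h
    exact ⟨_, h, by group⟩

theorem cj_mul (a b : G) (H : Subgroup G) : cj (a * b) H = cj a (cj b H) := by
  ext y; simp only [mem_cj]; simp [mul_assoc]

theorem cj_of_mem_normalizer {g : G} {H : Subgroup G} (hg : g ∈ normalizer (H : Set G)) :
    cj g H = H := by
  ext y; rw [mem_cj]; exact (mem_normalizer_iff''.mp hg y).symm

theorem cj_of_mem {g : G} {H : Subgroup G} (hg : g ∈ H) : cj g H = H :=
  cj_of_mem_normalizer (le_normalizer hg)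

theorem mem_normalizer_of_cj {g : G} {H : Subgroup G} (h : cj g H = H) :
    g ∈ normalizer (H : Set G) := by
  rw [mem_normalizer_iff'']; intro y; rw [← mem_cj, h]

theorem map_cj {G' : Type*} [Group G'] (f : G →* G') (g : G) (H : Subgroup G) :
    (cj g H).map f = cj (f g) (H.map f) := by
  rw [cj, cj, map_map, map_map]
  congr 1
  ext x
  simp

theorem cj_mono {g : G} {H K : Subgroup G} (h : H ≤ K) : cj g H ≤ cj g K := map_mono h

theorem cj_le_of_mem {g : G} {H K : Subgroup G} (hg : g ∈ K) (h : H ≤ K) : cj g H ≤ K :=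
  (cj_mono h).trans (cj_of_mem hg).le

theorem card_cj (g : G) (H : Subgroup G) : Nat.card (cj g H) = Nat.card H :=
  Nat.card_congr (equivMapOfInjective _ _ (MulAut.conj g).injective).symm.toEquiv

/-- Pronormality only needs `x` in the join with `g H g⁻¹ = x H x⁻¹`. -/
theorem pronormal_cj {H : Subgroup G} (h : Cfsg.IsPronormal H) (c : G) :
    Cfsg.IsPronormal (cj c H) := by
  intro g
  obtain ⟨x, hx, he⟩ := h (c⁻¹ * g * c)
  change cj _ H = cj x H at he
  refine ⟨c * x * c⁻¹, ?_, ?_⟩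
  · change c * x * c⁻¹ ∈ cj c H ⊔ cj g (cj c H)
    have h1 : c * x * c⁻¹ ∈ cj c (H ⊔ cj (c⁻¹ * g * c) H) :=
      mem_cj.mpr (by rwa [show c⁻¹ * (c * x * c⁻¹) * c = x by group])
    rw [cj, Subgroup.map_sup] at h1
    change c * x * c⁻¹ ∈ cj c H ⊔ cj c (cj (c⁻¹ * g * c) H) at h1
    rwa [← cj_mul, show c * (c⁻¹ * g * c) = g * c by group, cj_mul] at h1
  · change cj g (cj c H) = cj (c * x * c⁻¹) (cj c H)
    rw [← cj_mul, ← cj_mul, show c * x * c⁻¹ * c = c * x by group, cj_mul c x, ← he, ← cj_mul,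
      show c * (c⁻¹ * g * c) = g * c by group]

/-- Pronormality passes to homomorphic images. -/
theorem pronormal_map {G' : Type*} [Group G'] {f : G →* G'} (hf : Function.Surjective f)
    {H : Subgroup G} (h : Cfsg.IsPronormal H) : Cfsg.IsPronormal (H.map f) := by
  intro g'
  obtain ⟨g, rfl⟩ := hf g'
  obtain ⟨x, hx, he⟩ := h g
  change cj g H = cj x H at he
  refine ⟨f x, ?_, ?_⟩
  · change f x ∈ H.map f ⊔ cj (f g) (H.map f)
    rw [← map_cj, ← Subgroup.map_sup]
    exact mem_map_of_mem f hx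
  · change cj (f g) (H.map f) = cj (f x) (H.map f)
    rw [← map_cj, ← map_cj, he]

/-- Pronormality passes to subgroups. -/
theorem pronormal_subgroupOf {H M : Subgroup G} (hHM : H ≤ M) (h : Cfsg.IsPronormal H) :
    Cfsg.IsPronormal (H.subgroupOf M) := by
  intro g
  obtain ⟨x, hx, he⟩ := h (g : G)
  change cj (g : G) H = cj x H at he
  have hle : H ⊔ cj (g : G) H ≤ M := sup_le hHM (cj_le_of_mem g.2 hHM)
  have hmap : ∀ y : M, (cj y (H.subgroupOf M)).map M.subtype = cj (y : G) H := fun y => by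
    rw [map_cj, subgroupOf_map_subtype, inf_of_le_left hHM]
    rfl
  refine ⟨⟨x, hle hx⟩, ?_, ?_⟩
  · change _ ∈ H.subgroupOf M ⊔ cj g (H.subgroupOf M)
    have h1 : x ∈ (H.subgroupOf M ⊔ cj g (H.subgroupOf M)).map M.subtype := by
      rw [Subgroup.map_sup, hmap, subgroupOf_map_subtype, inf_of_le_left hHM]
      exact hx
    obtain ⟨y, hy, hyx⟩ := h1
    exact (Subtype.ext hyx : y = ⟨x, hle hx⟩) ▸ hy
  · change cj g (H.subgroupOf M) = cj ⟨x, hle hx⟩ (H.subgroupOf M)
    apply map_injective M.subtype_injective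
    rw [hmap, hmap]
    exact he

variable [Finite G] {p : ℕ} [Fact p.Prime]

theorem exists_mem_sylow_conj {P Q : Sylow p G} {J : Subgroup G} (hP : (P : Subgroup G) ≤ J)
    (hQ : (Q : Subgroup G) ≤ J) : ∃ j ∈ J, cj j (P : Subgroup G) = Q := by
  obtain ⟨j, hj⟩ := MulAction.exists_smul_eq J (P.subtype hP) (Q.subtype hQ)
  rw [Sylow.smul_subtype] at hj
  exact ⟨j, j.2, congrArg Sylow.toSubgroup (Sylow.subtype_injective hj)⟩

/-- A conjugating element may be taken in the normalizer of a Sylow subgroup of `K`. -/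
theorem pronormal_of_normalizer {K : Subgroup G} (S : Sylow p G) (hS : (S : Subgroup G) ≤ K)
    (h : ∀ g ∈ normalizer ((S : Subgroup G) : Set G), ∃ x ∈ K ⊔ cj g K, cj g K = cj x K) :
    Cfsg.IsPronormal K := by
  intro g
  obtain ⟨j, hj, he⟩ := exists_mem_sylow_conj (P := g • S) (Q := S) (J := K ⊔ cj g K)
    ((cj_mono (g := g) hS).trans le_sup_right) (hS.trans le_sup_left)
  have he' : cj (j * g) (S : Subgroup G) = S := by rw [cj_mul]; exact he
  obtain ⟨x, hx, hxe⟩ := h (j * g) (mem_normalizer_of_cj he')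
  have hle : K ⊔ cj (j * g) K ≤ K ⊔ cj g K :=
    sup_le le_sup_left (by rw [cj_mul]; exact cj_le_of_mem hj le_sup_right)
  refine ⟨j⁻¹ * x, mul_mem (inv_mem hj) (hle hx), ?_⟩
  change cj g K = cj (j⁻¹ * x) K
  rw [cj_mul, ← hxe, ← cj_mul, inv_mul_cancel_left]

/-- Every overgroup of a Sylow `p`-subgroup is pronormal. -/
def SylPro (p : ℕ) (G : Type*) [Group G] : Prop :=
  ∀ K : Subgroup G, (∃ P : Sylow p G, (P : Subgroup G) ≤ K) → Cfsg.IsPronormal K

theorem sylPro_of_self_normalizing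
    (h : ∀ P : Sylow p G, normalizer ((P : Subgroup G) : Set G) = P) : SylPro p G := by
  rintro K ⟨P, hP⟩
  refine pronormal_of_normalizer P hP fun g hg => ⟨1, one_mem _, ?_⟩
  rw [cj_of_mem (hP (by rwa [h] at hg)), cj_of_mem (one_mem _)]

theorem normalizer_eq_of_self_normalizing
    (h : ∀ P : Sylow p G, normalizer ((P : Subgroup G) : Set G) = P) {K : Subgroup G}
    (P : Sylow p G) (hP : (P : Subgroup G) ≤ K) : normalizer (K : Set G) = K := by
  refine le_antisymm (fun g hg => ?_) le_normalizer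
  obtain ⟨j, hj, he⟩ := exists_mem_sylow_conj (P := g • P) (Q := P) (J := K)
    ((cj_mono (g := g) hP).trans (cj_of_mem_normalizer hg).le) hP
  have he' : cj (j * g) (P : Subgroup G) = P := by rw [cj_mul]; exact he
  have h1 := mem_normalizer_of_cj he'
  rw [h] at h1
  simpa using mul_mem (inv_mem hj) (hP h1)

/-- The criterion for extensions. -/
theorem sylPro_iff (A : Subgroup G) [A.Normal] (hA : SylPro p A) (hQ : SylPro p (G ⧸ A))
    (T : Subgroup G) (hT : ∃ P : Sylow p A, (P : Subgroup A).map A.subtype = T)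
    [(T.subgroupOf (normalizer (T : Set G))).Normal] :
    SylPro p G ↔ (SylPro p (normalizer (T : Set G) ⧸ T.subgroupOf (normalizer (T : Set G))) ∧
      ∀ K : Subgroup G, (∃ P : Sylow p G, (P : Subgroup G) ≤ K) →
        (normalizer (K : Set G)).map (QuotientGroup.mk' A) =
          normalizer ((K.map (QuotientGroup.mk' A) : Subgroup (G ⧸ A)) : Set (G ⧸ A))) := by
  obtain ⟨P₀, hP₀⟩ := hT
  have hTA : T ≤ A := hP₀ ▸ map_subtype_le _
  have hTp : IsPGroup p T := hP₀ ▸ P₀.2.map A.subtype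
  set N := normalizer (T : Set G) with hN
  set T' := T.subgroupOf N with hT'
  -- a Sylow subgroup of `G` inside `N`
  obtain ⟨S₀, hS₀⟩ : ∃ S : Sylow p G, T ≤ (S : Subgroup G) := hTp.exists_le_sylow
  have hSA : (S₀ : Subgroup G) ⊓ A = T := by
    refine le_antisymm ?_ (le_inf hS₀ hTA)
    have h1 : IsPGroup p (((S₀ : Subgroup G) ⊓ A).subgroupOf A) :=
      (S₀.2.to_le inf_le_left).comap_subtype
    have h2 := P₀.is_maximal' h1 (fun x hx => ⟨hS₀ (hP₀.le ⟨x, hx, rfl⟩), x.2⟩)
    intro x hx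
    exact hP₀.le ⟨⟨x, hx.2⟩, h2.le hx, rfl⟩
  have hSN : (S₀ : Subgroup G) ≤ N := by
    intro g hg
    apply mem_normalizer_of_cj
    rw [← hSA, cj, map_inf_eq _ _ _ (MulAut.conj g).injective]
    change cj g (S₀ : Subgroup G) ⊓ cj g A = _
    rw [cj_of_mem hg, cj_of_mem_normalizer (le_normalizer_of_normal (mem_top g))]
  constructor
  · intro h
    refine ⟨?_, fun K hK => ?_⟩
    · rintro K' ⟨R, hR⟩
      set K₁ : Subgroup N := K'.comap (QuotientGroup.mk' T')
      have hK' : K₁.map (QuotientGroup.mk' T') = K' :=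
        map_comap_eq_self_of_surjective (QuotientGroup.mk'_surjective T') K'
      rw [← hK']
      refine pronormal_map (QuotientGroup.mk'_surjective T') ?_
      obtain ⟨U, hU⟩ := Sylow.mapSurjective_surjective (QuotientGroup.mk'_surjective T') p R
      have hUK : (U : Subgroup N) ≤ K₁ := by
        intro u hu
        refine hR ?_
        rw [← hU, Sylow.coe_mapSurjective]
        exact mem_map_of_mem _ hu
      obtain ⟨c, hc⟩ := MulAction.exists_smul_eq N (S₀.subtype hSN) U
      rw [Sylow.smul_subtype] at hc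
      have hpro : Cfsg.IsPronormal (K₁.map N.subtype) := h _ ⟨(c : G) • S₀, fun x hx =>
        ⟨⟨x, Sylow.smul_le hSN c hx⟩, hUK (hc ▸ hx), rfl⟩⟩
      have := pronormal_subgroupOf (map_subtype_le K₁) hpro
      rwa [subgroupOf, comap_map_eq_self_of_injective N.subtype_injective] at this
    · obtain ⟨P, hP⟩ := hK
      refine le_antisymm (le_normalizer_map _) ?_
      intro gb hgb
      obtain ⟨g, rfl⟩ := QuotientGroup.mk'_surjective A gb
      obtain ⟨x, hx, he⟩ := h K ⟨P, hP⟩ g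
      change cj g K = cj x K at he
      have hxK : QuotientGroup.mk' A x ∈ K.map (QuotientGroup.mk' A) := by
        have h1 := mem_map_of_mem (QuotientGroup.mk' A) hx
        rw [Subgroup.map_sup] at h1
        change _ ∈ K.map (QuotientGroup.mk' A) ⊔ (cj g K).map (QuotientGroup.mk' A) at h1
        rwa [map_cj, cj_of_mem_normalizer hgb, sup_idem] at h1
      have hn : x⁻¹ * g ∈ normalizer (K : Set G) :=
        mem_normalizer_of_cj (by rw [cj_mul, he, ← cj_mul, inv_mul_cancel, cj_of_mem (one_mem _)])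
      have hxK' : QuotientGroup.mk' A x ∈ (normalizer (K : Set G)).map (QuotientGroup.mk' A) :=
        map_mono le_normalizer hxK
      have := mul_mem hxK' (mem_map_of_mem (QuotientGroup.mk' A) hn)
      rwa [← map_mul, mul_inv_cancel_left] at this
  · rintro ⟨hN', hii⟩ K ⟨P, hP⟩
    -- move `P` to `S₀`
    obtain ⟨c, hc⟩ := MulAction.exists_smul_eq G P S₀
    suffices hK : Cfsg.IsPronormal (cj c K) by
      have := pronormal_cj hK c⁻¹
      rwa [← cj_mul, inv_mul_cancel, cj_of_mem (one_mem _)] at this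
    have hS : (S₀ : Subgroup G) ≤ cj c K := by
      rw [← hc]; exact cj_mono hP
    generalize cj c K = K₀ at hS ⊢
    clear hP hc K c P
    intro g
    -- step 1: reduce to `g ∈ A`
    obtain ⟨xb, hxb, hxe⟩ := hQ (K₀.map (QuotientGroup.mk' A))
      ⟨S₀.mapSurjective (QuotientGroup.mk'_surjective A), by
        rw [Sylow.coe_mapSurjective]; exact map_mono hS⟩ (QuotientGroup.mk' A g)
    change cj _ _ = cj xb _ at hxe
    change xb ∈ K₀.map (QuotientGroup.mk' A) ⊔ cj _ _ at hxb
    rw [← map_cj, ← Subgroup.map_sup] at hxb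
    obtain ⟨x, hx, rfl⟩ := hxb
    have hnorm : QuotientGroup.mk' A (x⁻¹ * g) ∈
        normalizer ((K₀.map (QuotientGroup.mk' A) : Subgroup (G ⧸ A)) : Set (G ⧸ A)) := by
      apply mem_normalizer_of_cj
      rw [map_mul, map_inv, cj_mul, hxe, ← cj_mul, inv_mul_cancel, cj_of_mem (one_mem _)]
    rw [← hii K₀ ⟨S₀, hS⟩] at hnorm
    obtain ⟨n, hn, hne⟩ := hnorm
    set a := x⁻¹ * g * n⁻¹ with ha_def
    have ha : a ∈ A := by
      rw [← QuotientGroup.eq_one_iff]
      change QuotientGroup.mk' A a = 1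
      rw [ha_def, map_mul, ← hne, map_inv, mul_inv_cancel]
    have hga : cj g K₀ = cj x (cj a K₀) := by
      have h1 : g = x * (a * n) := by rw [ha_def]; group
      rw [h1, cj_mul, cj_mul a n, cj_of_mem_normalizer hn]
    suffices key : ∀ J : Subgroup G, K₀ ≤ J → ∀ a ∈ A, cj a K₀ ≤ J →
        ∃ y ∈ J, cj a K₀ = cj y K₀ by
      have hle : cj a K₀ ≤ K₀ ⊔ cj g K₀ := by
        have h1 : cj a K₀ = cj x⁻¹ (cj g K₀) := by
          rw [hga, ← cj_mul x⁻¹ x, inv_mul_cancel, cj_of_mem (one_mem _)]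
        rw [h1]
        exact cj_le_of_mem (inv_mem hx) le_sup_right
      obtain ⟨y, hy, hye⟩ := key (K₀ ⊔ cj g K₀) le_sup_left a ha hle
      exact ⟨x * y, mul_mem hx hy, by change cj g K₀ = cj (x * y) K₀; rw [hga, hye, ← cj_mul]⟩
    intro J hKJ a ha haJ
    -- step 2: reduce to `a` normalizing `L = K₀ ⊓ A`
    set L : Subgroup G := K₀ ⊓ A with hL
    obtain ⟨y, hy, hye⟩ := hA (L.subgroupOf A) ⟨P₀, fun z hz => mem_subgroupOf.mpr
      ⟨hS (hS₀ (hP₀.le ⟨z, hz, rfl⟩)), z.2⟩⟩ ⟨a, ha⟩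
    change cj _ _ = cj y _ at hye
    change y ∈ L.subgroupOf A ⊔ cj _ _ at hy
    have hsub : ∀ z : A, (cj z (L.subgroupOf A)).map A.subtype = cj (z : G) L := fun z => by
      rw [map_cj, subgroupOf_map_subtype, inf_of_le_left (inf_le_right : L ≤ A)]
      rfl
    have hyJ : (y : G) ∈ J := by
      have h1 := mem_map_of_mem A.subtype hy
      rw [Subgroup.map_sup, hsub, subgroupOf_map_subtype, inf_of_le_left (inf_le_right : L ≤ A)] at h1
      exact (sup_le (inf_le_left.trans hKJ) ((cj_mono inf_le_left).trans haJ) :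
        L ⊔ cj a L ≤ J) h1
    have hye' : cj a L = cj (y : G) L := by
      have h1 := congrArg (fun M => M.map A.subtype) hye
      simp only [hsub] at h1
      exact h1
    set a₁ := (y : G)⁻¹ * a with ha₁
    have ha₁A : a₁ ∈ A := mul_mem (inv_mem y.2) ha
    have ha₁L : cj a₁ L = L := by
      rw [ha₁, cj_mul, hye', ← cj_mul, inv_mul_cancel, cj_of_mem (one_mem _)]
    have ha₁J : cj a₁ K₀ ≤ J := by
      rw [ha₁, cj_mul]; exact cj_le_of_mem (inv_mem hyJ) haJ
    suffices ∃ z ∈ J, cj a₁ K₀ = cj z K₀ by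
      obtain ⟨z, hz, hze⟩ := this
      refine ⟨y * z, mul_mem hyJ hz, ?_⟩
      rw [cj_mul, ← hze, ← cj_mul, ha₁, mul_inv_cancel_left]
    -- step 3: reduce to `b ∈ N ∩ A`
    have hTL : T ≤ L := le_inf (hS₀.trans hS) hTA
    have hfr : ∀ b : G, cj b L = L → ∃ l ∈ L, b * l ∈ N := by
      intro b hb
      have h1 : cj b⁻¹ L = L := by
        conv_lhs => rw [← hb, ← cj_mul, inv_mul_cancel, cj_of_mem (one_mem _)]
      set T₁ := cj b⁻¹ T with hT₁
      have hT₁L : T₁ ≤ L := (cj_mono hTL).trans h1.le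
      have hTi : ¬ p ∣ (T.subgroupOf L).index := by
        intro hd
        have h2 : T.relIndex L ∣ T.relIndex A :=
          Dvd.intro _ (relIndex_mul_relIndex T L A hTL inf_le_right)
        refine P₀.not_dvd_index ?_
        have h3 : T.relIndex A = (P₀ : Subgroup A).index := by
          rw [relIndex, ← hP₀, subgroupOf, comap_map_eq_self_of_injective A.subtype_injective]
        rw [← h3]
        exact hd.trans h2
      let PT : Sylow p L := (hTp.comap_subtype (K := L)).toSylow hTi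
      have hT₁p : IsPGroup p (T₁.subgroupOf L) := (hTp.map _).comap_subtype
      obtain ⟨Q, hQ'⟩ := hT₁p.exists_le_sylow
      obtain ⟨l, hl⟩ := MulAction.exists_smul_eq L PT Q
      refine ⟨l, l.2, ?_⟩
      apply mem_normalizer_of_cj
      have hQT : (Q : Subgroup L).map L.subtype = cj (l : G) T := by
        rw [← hl]
        change (cj l (PT : Subgroup L)).map L.subtype = _
        rw [map_cj, show (PT : Subgroup L) = T.subgroupOf L from rfl, subgroupOf_map_subtype,
          inf_of_le_left hTL]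
        rfl
      have h4 : T₁ ≤ cj (l : G) T := by
        rw [← hQT]
        intro z hz
        exact ⟨⟨z, hT₁L hz⟩, hQ' hz, rfl⟩
      have h5 : T₁ = cj (l : G) T := eq_of_le_of_card_ge h4 (by rw [hT₁, card_cj, card_cj])
      rw [cj_mul, ← h5, hT₁, ← cj_mul, mul_inv_cancel, cj_of_mem (one_mem _)]
    obtain ⟨l, hl, hbN⟩ := hfr a₁ ha₁L
    set b := a₁ * l with hb
    have hba : cj a₁ K₀ = cj b K₀ := by rw [hb, cj_mul a₁ l, cj_of_mem hl.1]
    -- step 4: inside `N`
    set K₁ : Subgroup G := K₀ ⊓ N with hK₁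
    have hK₀ : K₀ = L ⊔ K₁ := by
      refine le_antisymm (fun k hk => ?_) (sup_le inf_le_left inf_le_left)
      have hkL : cj k L = L := by
        rw [hL, cj, map_inf_eq _ _ _ (MulAut.conj k).injective]
        change cj k K₀ ⊓ cj k A = _
        rw [cj_of_mem hk, cj_of_mem_normalizer (le_normalizer_of_normal (mem_top k))]
      obtain ⟨m, hm, hmN⟩ := hfr k⁻¹ (by
        conv_lhs => rw [← hkL, ← cj_mul, inv_mul_cancel, cj_of_mem (one_mem _)])
      have h1 : (k⁻¹ * m)⁻¹ ∈ K₁ :=
        ⟨K₀.inv_mem (K₀.mul_mem (K₀.inv_mem hk) hm.1), N.inv_mem hmN⟩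
      have h2 := mul_mem (mem_sup_left (T := K₁) hm) (mem_sup_right (S := L) h1)
      simpa using h2
    have hLnorm : ∀ z ∈ K₁, cj z L = L := fun z hz => by
      rw [hL, cj, map_inf_eq _ _ _ (MulAut.conj z).injective]
      change cj z K₀ ⊓ cj z A = _
      rw [cj_of_mem hz.1, cj_of_mem_normalizer (le_normalizer_of_normal (mem_top z))]
    have hbL : cj b L = L := by rw [hb, cj_mul a₁ l, cj_of_mem hl, ha₁L]
    obtain ⟨zb, hzb, hze⟩ := hN' ((K₁.subgroupOf N).map (QuotientGroup.mk' T'))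
      ⟨(S₀.subtype hSN).mapSurjective (QuotientGroup.mk'_surjective T'), by
        rw [Sylow.coe_mapSurjective]
        exact map_mono (fun z hz => ⟨hS hz, z.2⟩)⟩ (QuotientGroup.mk' T' ⟨b, hbN⟩)
    change cj _ _ = cj zb _ at hze
    change zb ∈ _ ⊔ cj _ _ at hzb
    rw [← map_cj, ← Subgroup.map_sup] at hzb
    obtain ⟨z, hz, rfl⟩ := hzb
    rw [← map_cj, ← map_cj, map_eq_map_iff, QuotientGroup.ker_mk'] at hze
    have hT'K : ∀ w : N, T' ≤ cj w (K₁.subgroupOf N) := by
      intro w t ht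
      have hmem : w⁻¹ * t * w ∈ T' := by
        simpa using Subgroup.Normal.conj_mem inferInstance t ht w⁻¹
      rw [mem_cj, mem_subgroupOf]
      exact ⟨hS (hS₀ (mem_subgroupOf.mp hmem)), (w⁻¹ * t * w).2⟩
    rw [sup_of_le_left (hT'K _), sup_of_le_left (hT'K _)] at hze
    have hsubN : ∀ w : N, (cj w (K₁.subgroupOf N)).map N.subtype = cj (w : G) K₁ := fun w => by
      rw [map_cj, subgroupOf_map_subtype, inf_of_le_left (inf_le_right : K₁ ≤ N)]
      rfl
    have hze' : cj b K₁ = cj (z : G) K₁ := by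
      have h1 := congrArg (fun M => M.map N.subtype) hze
      simp only [hsubN] at h1
      exact h1
    have hzJ : (z : G) ∈ K₁ ⊔ cj b K₁ := by
      have h1 := mem_map_of_mem N.subtype hz
      rwa [Subgroup.map_sup, hsubN, subgroupOf_map_subtype, inf_of_le_left (inf_le_right : K₁ ≤ N)] at h1
    have hzL : cj (z : G) L = L := by
      refine cj_of_mem_normalizer ((sup_le (fun w hw => mem_normalizer_of_cj (hLnorm w hw)) ?_ :
        K₁ ⊔ cj b K₁ ≤ normalizer (L : Set G)) hzJ)
      exact cj_le_of_mem (mem_normalizer_of_cj hbL) (fun w hw => mem_normalizer_of_cj (hLnorm w hw))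
    refine ⟨z, ?_, ?_⟩
    · exact (sup_le (inf_le_left.trans hKJ) ((cj_mono inf_le_left).trans (hba ▸ ha₁J)) :
        K₁ ⊔ cj b K₁ ≤ J) hzJ
    · rw [hba, hK₀, cj, cj, Subgroup.map_sup, Subgroup.map_sup]
      change cj b L ⊔ cj b K₁ = cj (z : G) L ⊔ cj (z : G) K₁
      rw [hbL, hzL, hze']

end Cfsg.Agent.H78
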