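import Mathlib
import Cfsg.Agent.H78.SylowCount
import Cfsg.Agent.Coprime.Action

/-!
M. Hall's factorisation of Sylow numbers.
-/

set_option autoImplicit false

namespace Cfsg.Agent.H78

open Subgroup

universe u

/-- A list of admissible factors of a Sylow number. -/
def GoodFactors (p : ℕ) (n : ℕ) : Prop :=
  ∃ l : List ℕ, l.prod = n ∧
    ∀ m ∈ l, (IsPrimePow m ∧ m % p = 1) ∨
      ∃ (S : Type u) (_ : Group S) (_ : Finite S), IsSimpleGroup S ∧ m = Nat.card (Sylow p S)

theorem GoodFactors.one (p : ℕ) : GoodFactors.{u} p 1 := ⟨[], rfl, by simp⟩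

theorem GoodFactors.mul {p a b : ℕ} (ha : GoodFactors.{u} p a) (hb : GoodFactors.{u} p b) :
    GoodFactors.{u} p (a * b) := by
  obtain ⟨la, rfl, hla⟩ := ha
  obtain ⟨lb, rfl, hlb⟩ := hb
  exact ⟨la ++ lb, List.prod_append, fun m hm => (List.mem_append.mp hm).elim (hla m) (hlb m)⟩

theorem GoodFactors.of_primePow {p m : ℕ} (h : m % p = 1) (hm : IsPrimePow m) :
    GoodFactors.{u} p m :=
  ⟨[m], by simp, fun x hx => Or.inl (by rw [List.mem_singleton.mp hx]; exact ⟨hm, h⟩)⟩

theorem GoodFactors.prod {p : ℕ} {ι : Type*} (s : Finset ι) (f : ι → ℕ)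
    (h : ∀ i ∈ s, GoodFactors.{u} p (f i)) : GoodFactors.{u} p (∏ i ∈ s, f i) :=
  Finset.prod_induction f (GoodFactors.{u} p) (fun _ _ => GoodFactors.mul) (GoodFactors.one p) h

variable {G : Type u} [Group G] [Finite G] {p : ℕ} [Fact p.Prime]

/-- The case `G = P K` with `K` a normal `p'`-subgroup. -/
theorem goodFactors_pnilpotent (K : Subgroup G) [K.Normal] (hK : ¬ p ∣ Nat.card K) (P : Sylow p G)
    (hG : (P : Subgroup G) ⊔ K = ⊤) : GoodFactors.{u} p (Nat.card (Sylow p G)) := by
  set N : Subgroup G := normalizer ((P : Subgroup G) : Set G) with hN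
  have hidx : Nat.card (Sylow p G) = N.relIndex K := by
    rw [P.card_eq_index_normalizer, ← Sylow.coe_coe, ← hN, ← relIndex_top_right,
      relIndex_eq_of_factor (A := N) (M := K) le_top le_top (fun b _ => by
        have hb : b ∈ K ⊔ (P : Subgroup G) := by rw [sup_comm, hG]; exact mem_top b
        obtain ⟨y, hy, x, hx, rfl⟩ := mem_sup_of_normal_left.mp hb
        exact ⟨y, hy, x, le_normalizer hx, rfl⟩)]
  have hPK : (P : Subgroup G) ≤ normalizer (K : Set G) := le_normalizer_of_normal
  have hcop : (Nat.card (P : Subgroup G)).Coprime (Nat.card K) := by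
    obtain ⟨k, hk⟩ := IsPGroup.iff_card.mp P.2
    rw [hk]
    exact Nat.Coprime.pow_left _ ((Fact.out : p.Prime).coprime_iff_not_dvd.mpr hK)
  have hsol : Group.IsSolvable (P : Subgroup G) := by
    have := P.2.isNilpotent
    infer_instance
  rw [hidx]
  have hne : N.relIndex K ≠ 0 := by
    rw [← hidx]; exact Nat.card_pos.ne'
  rw [← Nat.prod_factorization_pow_eq_self hne, Finsupp.prod]
  refine GoodFactors.prod _ _ fun r hr => ?_
  have hrp : r.Prime := Nat.prime_of_mem_primeFactors (by simpa using hr)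
  haveI := Fact.mk hrp
  have hpos : 0 < (N.relIndex K).factorization r := Nat.pos_of_ne_zero (Finsupp.mem_support_iff.mp hr)
  refine GoodFactors.of_primePow ?_ ((IsPrimePow.pow hrp.prime.isPrimePow hpos.ne'))
  -- a Sylow subgroup of `K ⊓ N`, inside an invariant Sylow subgroup of `K`
  set C : Subgroup G := K ⊓ N with hC
  have hCcent : C ≤ centralizer ((P : Subgroup G) : Set G) := fun c hc =>
    Coprime.mem_centralizer_of_mem_normalizer hPK (Coprime.inf_eq_bot hcop) hc.1 hc.2
  obtain ⟨U₀⟩ : Nonempty (Sylow r C) := inferInstance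
  set U : Subgroup G := (U₀ : Subgroup C).map C.subtype
  have hUC : U ≤ C := map_subtype_le _
  have hPU : (P : Subgroup G) ≤ normalizer (U : Set G) := by
    intro x hx
    rw [mem_normalizer_iff]
    intro y
    constructor
    · intro hy
      rwa [mem_centralizer_iff.mp (hCcent (hUC hy)) x hx, mul_inv_cancel_right]
    · intro hy
      have h1 := mem_centralizer_iff.mp (hCcent (hUC hy)) x hx
      have h2 : x * y = y * x := by
        have := congrArg (fun z => x⁻¹ * z * x) h1
        simpa [mul_assoc] using this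
      rwa [h2, mul_inv_cancel_right] at hy
  obtain ⟨R₀, hUR, hPR⟩ := Coprime.exists_invariant_sylow_ge hPK hcop (Or.inl hsol) r
    (hUC.trans inf_le_left) (U₀.2.map C.subtype) hPU
  set R : Subgroup G := (R₀ : Subgroup K).map K.subtype with hR
  have hRC : R ⊓ N = U := by
    refine le_antisymm ?_ (le_inf hUR (hUC.trans inf_le_right))
    have hle : R ⊓ N ≤ C := le_inf (inf_le_left.trans (map_subtype_le _)) inf_le_right
    have h1 : IsPGroup r ((R ⊓ N).subgroupOf C) :=
      ((R₀.2.map K.subtype).to_le inf_le_left).comap_subtype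
    have h2 := U₀.is_maximal' h1 (fun x hx => ⟨hUR ⟨x, hx, rfl⟩, hUC.trans inf_le_right ⟨x, hx, rfl⟩⟩)
    intro x hx
    exact ⟨⟨x, hle hx⟩, h2 ▸ hx, rfl⟩
  have hcard : N.relIndex R = r ^ (N.relIndex K).factorization r := by
    have e1 : N.relIndex R * Nat.card U = Nat.card R := by
      rw [← hRC, ← inf_relIndex_right N R, inf_comm N R, mul_comm]
      have h := relIndex_mul_relIndex (⊥ : Subgroup G) (R ⊓ N) R bot_le inf_le_left
      rwa [relIndex_bot_left, relIndex_bot_left] at h
    have e2 : N.relIndex K * Nat.card C = Nat.card K := by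
      rw [hC, ← inf_relIndex_right N K, inf_comm N K, mul_comm]
      have h := relIndex_mul_relIndex (⊥ : Subgroup G) (K ⊓ N) K bot_le inf_le_left
      rwa [relIndex_bot_left, relIndex_bot_left] at h
    have eU : Nat.card U = r ^ (Nat.card C).factorization r := by
      rw [show Nat.card U = Nat.card (U₀ : Subgroup C) from
        Nat.card_congr (equivMapOfInjective _ _ C.subtype_injective).symm.toEquiv]
      exact U₀.card_eq_multiplicity
    have eR : Nat.card R = r ^ (Nat.card K).factorization r := by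
      rw [show Nat.card R = Nat.card (R₀ : Subgroup K) from
        Nat.card_congr (equivMapOfInjective _ _ K.subtype_injective).symm.toEquiv]
      exact R₀.card_eq_multiplicity
    rw [eU, eR, ← e2, Nat.factorization_mul hne Nat.card_pos.ne', Finsupp.add_apply, pow_add] at e1
    exact Nat.eq_of_mul_eq_mul_right (pow_pos hrp.pos _) e1
  set H : Subgroup G := (P : Subgroup G) ⊔ R
  have h1 := card_sylow_eq_relIndex_of_le H P le_sup_left
  have hrel : N.relIndex H = N.relIndex R := by
    rw [← inf_relIndex_right N H, relIndex_eq_of_factor (A := N ⊓ H) inf_le_right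
      (le_sup_right : R ≤ H) (fun b hb => by
        have hb' : b ∈ ((R ⊔ (P : Subgroup G) : Subgroup G) : Set G) := by
          rw [SetLike.mem_coe, sup_comm]; exact hb
        rw [coe_mul_of_right_le_normalizer_left R (P : Subgroup G) hPR] at hb'
        obtain ⟨y, hy, x, hx, rfl⟩ := hb'
        exact ⟨y, hy, x, ⟨le_normalizer hx, le_sup_left (a := (P : Subgroup G)) hx⟩, rfl⟩),
      ← inf_relIndex_right, inf_assoc, inf_of_le_right (le_sup_right : R ≤ H), inf_relIndex_right]
  have hmod := card_sylow_modEq_one p H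
  rw [h1, ← hN, hrel, hcard] at hmod
  exact Eq.trans hmod (Nat.mod_eq_of_lt (Fact.out : p.Prime).one_lt)

/-- Hall: every Sylow number is a product of admissible factors. -/
theorem goodFactors_card_sylow (G : Type u) [Group G] [Finite G] (p : ℕ) [Fact p.Prime] :
    GoodFactors.{u} p (Nat.card (Sylow p G)) := by
  induction h : Nat.card G using Nat.strong_induction_on generalizing G with
  | _ m ih =>
    subst h
    have IH : ∀ (H : Type u) [Group H] [Finite H], Nat.card H < Nat.card G →
        GoodFactors.{u} p (Nat.card (Sylow p H)) := fun H _ _ hH => ih _ hH H rfl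
    by_cases hs : IsSimpleGroup G
    · exact ⟨[Nat.card (Sylow p G)], by simp, fun x hx =>
        Or.inr ⟨G, inferInstance, inferInstance, hs, List.mem_singleton.mp hx⟩⟩
    obtain ⟨P⟩ : Nonempty (Sylow p G) := inferInstance
    by_cases hG1 : Nontrivial G
    swap
    · rw [not_nontrivial_iff_subsingleton] at hG1
      have : Subsingleton (Sylow p G) := ⟨fun A B => Sylow.ext (Subsingleton.elim _ _)⟩
      rw [Nat.card_eq_one_iff_unique.mpr ⟨this, ⟨P⟩⟩]
      exact GoodFactors.one p
    obtain ⟨K, hK, hK0, hK1⟩ : ∃ K : Subgroup G, K.Normal ∧ K ≠ ⊥ ∧ K ≠ ⊤ := by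
      by_contra h
      exact hs ⟨fun K hK => by
        by_contra h'
        exact h ⟨K, hK, not_or.mp h'⟩⟩
    obtain ⟨N, hN⟩ : ∃ N : Subgroup G, N = ((P : Subgroup G) ⊔ K) ⊓
      normalizer (((P : Subgroup G) ⊓ K : Subgroup G) : Set G) := ⟨_, rfl⟩
    have lt_of : ∀ H : Subgroup G, H ≠ ⊤ → Nat.card H < Nat.card G := fun H hH =>
      lt_of_le_of_ne (Nat.le_of_dvd Nat.card_pos (card_subgroup_dvd_card H))
        fun he => hH (eq_top_of_card_eq H he)
    have lt_quot : ∀ (H : Subgroup G) [H.Normal], H ≠ ⊥ → Nat.card (G ⧸ H) < Nat.card G := by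
      intro H _ hH
      have h1 : 1 < Nat.card H := H.one_lt_card_iff_ne_bot.mpr hH
      have h2 := card_eq_card_quotient_mul_card_subgroup H
      have h3 : 0 < Nat.card (G ⧸ H) := Nat.card_pos
      nlinarith
    by_cases hNt : N = ⊤
    · subst hNt
      have hPK : (P : Subgroup G) ⊔ K = ⊤ := top_le_iff.mp (hN.le.trans inf_le_left)
      have hDn : ((P : Subgroup G) ⊓ K).Normal :=
        normalizer_eq_top_iff.mp (top_le_iff.mp (hN.le.trans inf_le_right))
      by_cases hD : (P : Subgroup G) ⊓ K = ⊥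
      · obtain ⟨Q, hQ⟩ := exists_sylow_inf_normal K P
        rw [hD, Subgroup.map_eq_bot_iff, K.ker_subtype, le_bot_iff] at hQ
        exact goodFactors_pnilpotent K (fun h => Q.ne_bot_of_dvd_card h hQ) P hPK
      · have := IH _ (lt_quot _ hD)
        rwa [card_sylow_quotient_of_isPGroup _ (P.2.to_le inf_le_left)] at this
    · rw [card_sylow_product K P N hN]
      exact ((IH _ (lt_quot K hK0)).mul (IH _ (lt_of K hK1))).mul (IH _ (lt_of N hNt))

end Cfsg.Agent.H78
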