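import Mathlib

/-!
Wielandt's zipper lemma and a sharpened form of his subnormality criterion.
-/

set_option autoImplicit false

namespace Cfsg.Agent.H78

open Subgroup
open scoped Pointwise

universe u

variable {G : Type u} [Group G]

theorem mem_conj_smul_iff {A : Subgroup G} {g y : G} :
    y ∈ MulAut.conj g • A ↔ g⁻¹ * y * g ∈ A := by
  rw [mem_pointwise_smul_iff_inv_smul_mem]
  simp [MulAut.smul_def]

theorem conj_smul_mem {A : Subgroup G} {g a : G} (ha : a ∈ A) :
    g * a * g⁻¹ ∈ MulAut.conj g • A := by
  rw [mem_conj_smul_iff]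
  simpa [mul_assoc] using ha

theorem conj_smul_of_mem_normalizer {A : Subgroup G} {g : G}
    (hg : g ∈ normalizer (A : Set G)) : MulAut.conj g • A = A := by
  ext y
  rw [mem_conj_smul_iff]
  exact (mem_normalizer_iff''.mp hg y).symm

theorem mem_normalizer_of_conj_smul {A : Subgroup G} {g : G} (h : MulAut.conj g • A = A) :
    g ∈ normalizer (A : Set G) := by
  rw [mem_normalizer_iff'']
  intro y
  rw [← mem_conj_smul_iff, h]

theorem conj_smul_ne_top {A : Subgroup G} {g : G} (h : A ≠ ⊤) : MulAut.conj g • A ≠ ⊤ := by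
  intro h2
  apply h
  ext y
  refine iff_of_true ?_ (mem_top y)
  have := mem_conj_smul_iff.mp (h2 ▸ mem_top (g * y * g⁻¹))
  simpa [mul_assoc] using this

/-- Transport of relative subnormality to a smaller ambient subgroup. -/
theorem isSubnormal_subgroupOf_of_le {A K L : Subgroup G} (hKL : K ≤ L)
    (h : (A.subgroupOf L).IsSubnormal) : (A.subgroupOf K).IsSubnormal :=
  h.comap (inclusion hKL)

theorem isSubnormal_conj_subgroupOf {A K : Subgroup G} (g : G)
    (h : (A.subgroupOf K).IsSubnormal) :
    ((MulAut.conj g • A).subgroupOf (MulAut.conj g • K)).IsSubnormal := by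
  let f : ↥(MulAut.conj g • K : Subgroup G) →* ↥K :=
    { toFun := fun y => ⟨g⁻¹ * (y : G) * g, mem_conj_smul_iff.mp y.2⟩
      map_one' := Subtype.ext (by simp)
      map_mul' := fun a b => Subtype.ext (by simp [mul_assoc]) }
  have h' := h.comap f
  convert h' using 1
  ext y
  rw [mem_subgroupOf, mem_comap, mem_subgroupOf, mem_conj_smul_iff]
  rfl

variable [Finite G]

/-- The join of two subnormal subgroups, one normalising the other, is subnormal. -/
theorem isSubnormal_sup_of_normalizes {A B : Subgroup G} (hA : A.IsSubnormal)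
    (hB : B.IsSubnormal) (hBA : B ≤ normalizer (A : Set G)) : (A ⊔ B).IsSubnormal := by
  suffices H : ∀ K : Subgroup G, A ≤ K → B ≤ normalizer (K : Set G) →
      ((A ⊔ B).subgroupOf (K ⊔ B)).IsSubnormal by
    have h := H ⊤ le_top (le_normalizer_of_normal : B ≤ normalizer ((⊤ : Subgroup G) : Set G))
    exact Subgroup.IsSubnormal.trans le_top (isSubnormal_subgroupOf_of_le (le_sup_left (b := B)) h)
      Subgroup.IsSubnormal.top
  intro K
  induction K using WellFoundedLT.induction with
  | _ K ih =>
    intro hAK hBK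
    by_cases hKA : A = K
    · subst hKA
      rw [subgroupOf_self]
      exact .top
    obtain ⟨N₀, hN₀n, hAN₀, hN₀⟩ := (hA.subgroupOf (K := K)).exists_normal_and_le_and_lt_top_of_ne
      (fun h => hKA (le_antisymm hAK (subgroupOf_eq_top.mp h)))
    -- the normal closure of `A` in `K`
    set N : Subgroup G := ⨆ k : K, MulAut.conj (k : G) • A with hN
    have hAN : A ≤ N := by
      refine le_trans (le_of_eq ?_) (le_iSup _ (1 : K))
      simp
    have hNK : N ≤ N₀.map K.subtype := by
      refine iSup_le fun k y hy => ?_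
      rw [mem_conj_smul_iff] at hy
      refine ⟨k * ⟨(k : G)⁻¹ * y * k, hAK hy⟩ * k⁻¹, hN₀n.conj_mem _ (hAN₀ hy) k, ?_⟩
      simp [mul_assoc]
    have hlt : N < K := by
      refine lt_of_le_of_lt hNK (lt_of_le_of_ne (map_subtype_le _) fun h => hN₀.ne ?_)
      rw [eq_top_iff]
      intro x _
      have : (x : G) ∈ N₀.map K.subtype := h.ge x.2
      obtain ⟨y, hy, hyx⟩ := this
      exact (Subtype.ext hyx : y = x) ▸ hy
    have hnorm : ∀ g, g ∈ normalizer (K : Set G) → (∀ k ∈ K, MulAut.conj (g * k) • A ≤ N) →
        g ∈ normalizer (N : Set G) := by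
      intro g hg h
      apply mem_normalizer_of_conj_smul
      refine eq_of_le_of_card_ge ?_ (le_of_eq ?_)
      · rw [pointwise_smul_subset_iff]
        refine iSup_le fun k => ?_
        rw [← pointwise_smul_subset_iff, ← mul_smul, ← map_mul]
        exact h k k.2
      · exact Nat.card_congr (equivSMul (MulAut.conj g) N).toEquiv
    have hKN : K ≤ normalizer (N : Set G) := fun g hg => hnorm g (le_normalizer hg)
      fun k hk => le_iSup (fun k : K => MulAut.conj (k : G) • A) ⟨g * k, K.mul_mem hg hk⟩
    have hBN : B ≤ normalizer (N : Set G) := fun g hg => hnorm g (hBK hg) fun k hk => by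
      have h2 := conj_smul_of_mem_normalizer (hBA hg)
      rw [show g * k = (g * k * g⁻¹) * g by group, map_mul, mul_smul, h2]
      exact le_iSup (fun k : K => MulAut.conj (k : G) • A)
        ⟨g * k * g⁻¹, (mem_normalizer_iff.mp (hBK hg) k).mp hk⟩
    have h1 := ih N hlt hAN hBN
    have hle : N ⊔ B ≤ K ⊔ B := sup_le_sup_right hlt.le B
    have h2 : ((N ⊔ B).subgroupOf (K ⊔ B)).IsSubnormal := by
      have hn : (N.subgroupOf (K ⊔ B)).Normal :=
        (normal_subgroupOf_iff_le_normalizer (le_sup_of_le_left hlt.le)).mpr (sup_le hKN hBN)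
      have h3 := ((hB.subgroupOf (K := K ⊔ B)).map
        (QuotientGroup.mk'_surjective (N.subgroupOf (K ⊔ B)))).comap
        (QuotientGroup.mk' (N.subgroupOf (K ⊔ B)))
      rwa [comap_map_eq, QuotientGroup.ker_mk', ← subgroupOf_sup le_sup_right
        (le_sup_of_le_left hlt.le), sup_comm B N] at h3
    have hle' : A ⊔ B ≤ N ⊔ B := sup_le_sup_right hAN B
    let f : ↥((N ⊔ B).subgroupOf (K ⊔ B)) →* ↥(N ⊔ B) :=
      (subgroupOfEquivOfLe hle).toMonoidHom
    exact Subgroup.IsSubnormal.trans (K := (N ⊔ B).subgroupOf (K ⊔ B)) (fun x hx => hle' hx)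
      (h1.comap f) h2

/-- A subnormal subgroup that is not normal has a different conjugate normalising it. -/
theorem exists_conj_le_normalizer {G : Type u} [Group G] [Finite G] {S : Subgroup G}
    (hS : S.IsSubnormal) (hn : ¬ S.Normal) :
    ∃ x : G, MulAut.conj x • S ≠ S ∧ MulAut.conj x • S ≤ normalizer (S : Set G) := by
  induction h : Nat.card G using Nat.strong_induction_on generalizing G with
  | _ m ih =>
    subst h
    obtain ⟨L, hLn, hSL, hL⟩ := hS.exists_normal_and_le_and_lt_top_of_ne
      (fun h => hn (h ▸ inferInstance))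
    by_cases hSLn : (S.subgroupOf L).Normal
    · have hLS : L ≤ normalizer (S : Set G) := (normal_subgroupOf_iff_le_normalizer hSL).mp hSLn
      obtain ⟨g, hg⟩ : ∃ g, g ∉ normalizer (S : Set G) := by
        by_contra h
        push_neg at h
        exact hn (normalizer_eq_top_iff.mp ((eq_top_iff' _).mpr h))
      refine ⟨g, fun h => hg (mem_normalizer_of_conj_smul h), fun y hy => hLS ?_⟩
      have := hLn.conj_mem _ (hSL (mem_conj_smul_iff.mp hy)) g
      simpa [mul_assoc] using this
    · have hlt : Nat.card L < Nat.card G := lt_of_le_of_ne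
        (Nat.le_of_dvd Nat.card_pos (card_subgroup_dvd_card L))
        fun he => hL.ne (eq_top_of_card_eq L he)
      obtain ⟨x, hx1, hx2⟩ := ih _ hlt (hS.subgroupOf (K := L)) hSLn rfl
      refine ⟨x, fun h => hx1 ?_, fun y hy => ?_⟩
      · ext y
        rw [mem_conj_smul_iff, mem_subgroupOf, mem_subgroupOf]
        have := SetLike.ext_iff.mp h (y : G)
        rw [mem_conj_smul_iff] at this
        simpa using this
      · have hyL : y ∈ L := by
          have := hLn.conj_mem _ (hSL (mem_conj_smul_iff.mp hy)) (x : G)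
          simpa [mul_assoc] using this
        have h3 := hx2 (x := ⟨y, hyL⟩) (by
          rw [mem_conj_smul_iff, mem_subgroupOf]
          simpa using mem_conj_smul_iff.mp hy)
        rw [← subgroupOf_normalizer_eq hSL, mem_subgroupOf] at h3
        exact h3

/-- Wielandt's zipper lemma. -/
theorem zipper {S : Subgroup G} (hS : ¬ S.IsSubnormal)
    (h : ∀ H : Subgroup G, S ≤ H → H ≠ ⊤ → (S.subgroupOf H).IsSubnormal) :
    ∃ M : Subgroup G, IsCoatom M ∧ S ≤ M ∧ ∀ K : Subgroup G, IsCoatom K → S ≤ K → K = M := by
  induction S using WellFoundedGT.induction with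
  | _ S ih =>
    have hN : normalizer (S : Set G) ≠ ⊤ := fun h =>
      hS (normalizer_eq_top_iff.mp h).isSubnormal
    obtain ⟨M, hM, hNM⟩ := (eq_top_or_exists_le_coatom _).resolve_left hN
    refine ⟨M, hM, le_normalizer.trans hNM, fun K hK hSK => ?_⟩
    by_cases hn : (S.subgroupOf K).Normal
    · exact (hK.le_iff.mp (((normal_subgroupOf_iff_le_normalizer hSK).mp hn).trans hNM)).resolve_left
        hM.1 |>.symm
    obtain ⟨x, hx1, hx2⟩ := exists_conj_le_normalizer (h K hSK hK.1) hn
    set B : Subgroup G := MulAut.conj (x : G) • S with hB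
    have hBK : B ≤ K := fun y hy => by
      have := K.mul_mem (K.mul_mem x.2 (hSK (mem_conj_smul_iff.mp hy))) (K.inv_mem x.2)
      simpa [mul_assoc] using this
    have hBS : B ≤ normalizer (S : Set G) := by
      intro y hy
      have h3 := hx2 (x := ⟨y, hBK hy⟩) (by
        rw [mem_conj_smul_iff, mem_subgroupOf]
        simpa using mem_conj_smul_iff.mp hy)
      rw [← subgroupOf_normalizer_eq hSK, mem_subgroupOf] at h3
      exact h3
    have hne : ¬ B ≤ S := by
      intro hle
      apply hx1
      have : B = S := eq_of_le_of_card_ge hle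
        (Nat.card_congr (equivSMul (MulAut.conj (x : G)) S).toEquiv).le
      ext y
      rw [mem_conj_smul_iff, mem_subgroupOf, mem_subgroupOf]
      have := SetLike.ext_iff.mp this (y : G)
      rw [hB, mem_conj_smul_iff] at this
      simpa using this
    have hlt : S < S ⊔ B := left_lt_sup.mpr hne
    have hT : ¬ (S ⊔ B).IsSubnormal := fun hT =>
      hS (Subgroup.IsSubnormal.trans le_sup_left (normal_subgroupOf_iff_le_normalizer le_sup_left |>.mpr
        (sup_le le_normalizer hBS)).isSubnormal hT)
    obtain ⟨M', -, -, huniq⟩ := ih _ hlt hT fun H hH hHt => by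
      have hSH : S ≤ H := le_sup_left.trans hH
      have hBH : B ≤ H := le_sup_right.trans hH
      have h1 : (B.subgroupOf H).IsSubnormal := by
        have hle : S ≤ MulAut.conj (x : G)⁻¹ • H := by
          intro y hy
          rw [mem_conj_smul_iff]
          have := hBH (conj_smul_mem (g := (x : G)) hy)
          simpa using this
        have h4 := isSubnormal_conj_subgroupOf (x : G) (h _ hle (conj_smul_ne_top hHt))
        rwa [← mul_smul, ← map_mul, mul_inv_cancel, map_one, one_smul] at h4
      rw [subgroupOf_sup hSH hBH]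
      refine isSubnormal_sup_of_normalizes (h H hSH hHt) h1 ?_
      rw [← subgroupOf_normalizer_eq hSH]
      exact fun y hy => hBS hy
    rw [huniq K hK (sup_le hSK hBK),
      huniq M hM ((sup_le le_normalizer hBS).trans hNM)]

/-- Wielandt's subnormality criterion, in the sharpened form. -/
theorem isSubnormal_of_forall_conj_conj {G : Type u} [Group G] [Finite G] (A : Subgroup G)
    (h : ∀ a ∈ A, ∀ g : G, (A.subgroupOf (A ⊔ MulAut.conj (g⁻¹ * a * g) • A)).IsSubnormal) :
    A.IsSubnormal := by
  induction hcard : Nat.card G using Nat.strong_induction_on generalizing G with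
  | _ m ih =>
    subst hcard
    by_contra hA
    have hprop : ∀ H : Subgroup G, A ≤ H → H ≠ ⊤ → (A.subgroupOf H).IsSubnormal := by
      intro H hAH hH
      refine ih _ (lt_of_le_of_ne (Nat.le_of_dvd Nat.card_pos (card_subgroup_dvd_card H))
        fun he => hH (eq_top_of_card_eq H he)) (A.subgroupOf H) (fun a ha g => ?_) rfl
      set X : Subgroup G := A ⊔ MulAut.conj ((g : G)⁻¹ * a * g) • A
      set Y : Subgroup H := A.subgroupOf H ⊔ MulAut.conj (g⁻¹ * a * g) • A.subgroupOf H
      have hYX : ∀ y ∈ Y, (y : G) ∈ X := by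
        intro y hy
        have hle : Y ≤ X.subgroupOf H := by
          refine sup_le (fun z hz => (le_sup_left : A ≤ X) hz) fun z hz => ?_
          refine (le_sup_right : _ ≤ X) ?_
          rw [mem_conj_smul_iff] at hz ⊢
          rw [mem_subgroupOf] at hz
          simpa using hz
        exact hle hy
      let f : Y →* X :=
        { toFun := fun y => ⟨((y : H) : G), hYX y y.2⟩
          map_one' := rfl
          map_mul' := fun _ _ => rfl }
      have h' := (h (a : G) ha (g : G)).comap f
      exact h'
    obtain ⟨M, hM, hAM, huniq⟩ := zipper hA hprop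
    have hx : ∀ a ∈ A, ∀ g : G, g⁻¹ * a * g ∈ normalizer (M : Set G) := by
      intro a ha g
      have hne : A ⊔ MulAut.conj (g⁻¹ * a * g) • A ≠ ⊤ := fun he => by
        have h' := h a ha g
        rw [he] at h'
        exact hA (Subgroup.IsSubnormal.trans le_top h' .top)
      obtain ⟨K, hK, hXK⟩ := (eq_top_or_exists_le_coatom _).resolve_left hne
      have hKM := huniq K hK (le_sup_left.trans hXK)
      subst hKM
      set x := g⁻¹ * a * g
      have hAx : A ≤ MulAut.conj x⁻¹ • K := fun y hy => by
        rw [mem_conj_smul_iff]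
        have := (le_sup_right.trans hXK) (conj_smul_mem (g := x) hy)
        simpa using this
      obtain ⟨K', hK', hK''⟩ := (eq_top_or_exists_le_coatom _).resolve_left
        (conj_smul_ne_top (g := x⁻¹) hM.1)
      have h5 := huniq K' hK' (hAx.trans hK'')
      rw [h5] at hK''
      have h6 := eq_of_le_of_card_ge hK''
        (Nat.card_congr (equivSMul (MulAut.conj x⁻¹) K).toEquiv).le
      simpa using (normalizer (K : Set G)).inv_mem (mem_normalizer_of_conj_smul h6)
    by_cases hMn : M.Normal
    · exact hA (Subgroup.IsSubnormal.trans hAM (hprop M hAM hM.1) hMn.isSubnormal)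
    by_cases hcl : normalClosure (A : Set G) = ⊤
    · refine hMn (normalizer_eq_top_iff.mp (top_le_iff.mp (hcl ▸ ?_)))
      rw [normalClosure, closure_le]
      intro y hy
      obtain ⟨a, ha, hc⟩ := Group.mem_conjugatesOfSet_iff.mp hy
      obtain ⟨c, rfl⟩ := isConj_iff.mp hc
      simpa using hx a ha c⁻¹
    · exact hA (Subgroup.IsSubnormal.trans subset_normalClosure (hprop _ subset_normalClosure hcl)
        normalClosure_normal.isSubnormal)

end Cfsg.Agent.H78
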